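import Mathlib
import Cfsg.Prelude.Def_LocalEven
import Cfsg.Prelude.Def_Involutions
import Cfsg.Agent.Lib.Hall.Basic
import Cfsg.Agent.Lib.CNGroup.Basic
import Cfsg.Agent.Lib.PPrimeAbelian.Local

/-!
# Groups whose proper `p'`-subgroups are nilpotent: the setting

A minimal counterexample to solvability is simple with all proper subgroups solvable.

Owner: helper33. Namespace `Cfsg.Agent.Lib.NilPrime33`.
-/

set_option autoImplicit false
set_option linter.unusedSectionVars false
set_option linter.style.haveILetI false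

open scoped Pointwise

namespace Cfsg.Agent.Lib.NilPrime33

universe u

variable {G : Type u} [Group G]

/-- Every proper subgroup of order prime to `p` is nilpotent. -/
def PNil (p : ℕ) (G : Type u) [Group G] : Prop :=
  ∀ H : Subgroup G, H ≠ ⊤ → (Nat.card H).Coprime p → Group.IsNilpotent H

/-- The minimal counterexample. -/
structure Setting (p : ℕ) (G : Type u) [Group G] [Finite G] : Prop where
  prime : p.Prime
  five_le : 5 ≤ p
  simple : IsSimpleGroup G
  nonsolv : ¬ Group.IsSolvable G
  solv : ∀ H : Subgroup G, H ≠ ⊤ → Group.IsSolvable H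
  nil : PNil p G

variable [Finite G] {p : ℕ}

theorem Setting.coprime_two (h : Setting p G) : Nat.Coprime 2 p :=
  (Nat.coprime_primes Nat.prime_two h.prime).2 (by have := h.five_le; omega)

theorem Setting.odd_prime (h : Setting p G) : Odd p :=
  h.prime.odd_of_ne_two (by have := h.five_le; omega)

theorem Setting.eq_bot_of_normal (h : Setting p G) {N : Subgroup G} (hN : N.Normal) (hne : N ≠ ⊤) :
    N = ⊥ := by
  haveI := h.simple
  exact hN.eq_bot_or_eq_top.resolve_right hne

theorem Setting.ne_top (h : Setting p G) {H : Subgroup G} (hs : Group.IsSolvable H) : H ≠ ⊤ := by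
  rintro rfl
  exact h.nonsolv (Group.isSolvable_of_isSolvable_injective (f := (Subgroup.topEquiv (G := G)).symm.toMonoidHom)
    (Subgroup.topEquiv (G := G)).symm.injective)

theorem Setting.not_comm (h : Setting p G) : ¬ ∀ a b : G, a * b = b * a := fun hc =>
  h.nonsolv (Group.isSolvable_of_comm hc)

theorem Setting.center_eq_bot (h : Setting p G) : Subgroup.center G = ⊥ := by
  refine h.eq_bot_of_normal inferInstance fun he => h.not_comm fun a b => ?_
  exact (Subgroup.mem_center_iff.1 (he ▸ Subgroup.mem_top a) b).symm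

theorem Setting.normalizer_ne_top (h : Setting p G) {R : Subgroup G} (h1 : R ≠ ⊥) (h2 : R ≠ ⊤) :
    Subgroup.normalizer (R : Set G) ≠ ⊤ := fun he =>
  h1 (h.eq_bot_of_normal (Subgroup.normalizer_eq_top_iff.1 he) h2)

theorem Setting.centralizer_ne_top (h : Setting p G) {x : G} (hx : x ≠ 1) :
    Subgroup.centralizer ({x} : Set G) ≠ ⊤ := fun he => by
  have : x ∈ Subgroup.center G := Subgroup.mem_center_iff.2 fun y =>
    Subgroup.mem_centralizer_singleton_iff.1 (he ▸ Subgroup.mem_top y)
  rw [h.center_eq_bot, Subgroup.mem_bot] at this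
  exact hx this

/-- An element of order prime to `p` centralises each `p'`-subgroup of coprime order it normalises. -/
theorem Setting.commute_of_normalizes (h : Setting p G) {R : Subgroup G} (hR2 : R ≠ ⊤) {x : G}
    (hx : x ∈ Subgroup.normalizer (R : Set G)) (hRp : (Nat.card R).Coprime p)
    (hxp : (orderOf x).Coprime p) (hcop : (orderOf x).Coprime (Nat.card R)) :
    ∀ r ∈ R, x * r = r * x := by
  intro r hr
  rcases eq_or_ne R ⊥ with rfl | hR1
  · rw [Subgroup.mem_bot] at hr
    simp [hr]
  have hle : Subgroup.zpowers x ≤ Subgroup.normalizer (R : Set G) := Subgroup.zpowers_le.2 hx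
  set H := Subgroup.zpowers x ⊔ R with hH
  have hHne : H ≠ ⊤ := fun he => h.normalizer_ne_top hR1 hR2
    (top_le_iff.1 (he ▸ sup_le hle Subgroup.le_normalizer))
  have hcard : (Nat.card H).Coprime p := by
    refine Nat.Coprime.coprime_dvd_left (PPrimeAbelian.card_sup_dvd_of_le_normalizer hle) ?_
    rw [Nat.card_zpowers]
    exact Nat.Coprime.mul_left hxp hRp
  exact CNGroup.Basic.commute_of_mem_nilpotent (h.nil H hHne hcard)
    (Subgroup.mem_sup_left (Subgroup.mem_zpowers x)) (Subgroup.mem_sup_right hr)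
    (hcop.coprime_dvd_right (Subgroup.orderOf_dvd_natCard R hr))

/-- The `p'`-part of the order of an element inverted by an involution is a power of two. -/
theorem Setting.dvd_of_inverted (h : Setting p G) {t y : G} (ht : orderOf t = 2)
    (hinv : t * y * t⁻¹ = y⁻¹) {q : ℕ} (hq : q.Prime) (hdvd : q ∣ orderOf y) : q = p ∨ q = 2 := by
  by_contra hne
  push Not at hne
  set z := y ^ (orderOf y / q) with hz
  have hz' : orderOf z = q := orderOf_pow_orderOf_div (orderOf_pos y).ne' hdvd
  have hzt : t * z * t⁻¹ = z⁻¹ := by rw [hz, ← conj_pow, hinv, inv_pow]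
  haveI := Fact.mk hq
  have hn : t ∈ Subgroup.normalizer ((Subgroup.zpowers z : Subgroup G) : Set G) := by
    rw [Subgroup.mem_normalizer_iff_map_conj_eq, MonoidHom.map_zpowers]
    simp [hzt, Subgroup.zpowers_inv]
  have hne_top : Subgroup.zpowers z ≠ ⊤ := fun he =>
    h.ne_top (H := Subgroup.zpowers z)
      (Group.isSolvable_of_comm fun a b => by
        obtain ⟨a, i, rfl⟩ := a; obtain ⟨b, j, rfl⟩ := b
        exact Subtype.ext ((Commute.refl z).zpow_zpow i j).eq) he
  have hc := h.commute_of_normalizes hne_top hn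
    (by rw [Nat.card_zpowers, hz']; exact (Nat.coprime_primes hq h.prime).2 hne.1)
    (by rw [ht]; exact h.coprime_two)
    (by rw [Nat.card_zpowers, hz', ht]; exact (Nat.coprime_primes Nat.prime_two hq).2 hne.2.symm)
    z (Subgroup.mem_zpowers z)
  rw [hc, mul_inv_cancel_right] at hzt
  have h2 : orderOf z ∣ 2 := orderOf_dvd_of_pow_eq_one (by
    rw [pow_two]; exact mul_eq_one_iff_eq_inv.2 hzt)
  rw [hz'] at h2
  exact hne.2 ((Nat.prime_dvd_prime_iff_eq hq Nat.prime_two).1 h2)

/-- A proper subgroup has a nilpotent Hall `p'`-subgroup over a given `p'`-subgroup. -/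
theorem Setting.exists_hall (h : Setting p G) {X : Subgroup G} (hX : X ≠ ⊤) :
    ∃ H : Subgroup G, H ≤ X ∧ (Nat.card H).Coprime p ∧ Group.IsNilpotent H ∧
      ∃ k : ℕ, H.relIndex X = p ^ k := by
  haveI := h.solv X hX
  obtain ⟨H, hHX, h1, h2⟩ := Hall.exists_isPiHallOf {q | q ≠ p} X
  have hcop : (Nat.card H).Coprime p :=
    (h.prime.coprime_iff_not_dvd.2 fun hd => h1 p h.prime hd rfl).symm
  refine ⟨H, hHX, hcop, h.nil H (fun he => hX (top_le_iff.1 (he ▸ hHX))) hcop, ?_⟩
  have hne : H.relIndex X ≠ 0 := Subgroup.index_ne_zero_of_finite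
  refine ⟨_, Nat.eq_prime_pow_of_unique_prime_dvd hne ?_⟩
  intro d hd hdd
  by_contra hdp
  exact h2 d hd hdp hdd

/-- The symmetric group of degree four is not involved. -/
theorem Setting.not_involves_four (h : Setting p G) :
    ¬ Cfsg.Involves (Equiv.Perm (Fin 4)) G := by
  rintro ⟨K, R, hn, ⟨e⟩⟩
  haveI := hn
  have hcard : Nat.card (K ⧸ R.subgroupOf K) = 24 := by
    rw [Nat.card_congr e.toEquiv, Nat.card_perm, Nat.card_fin]; rfl
  have hKtop : K ≠ ⊤ := by
    rintro rfl
    haveI : IsSimpleGroup ↥(⊤ : Subgroup G) := by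
      haveI := h.simple
      exact Subgroup.topEquiv.isSimpleGroup
    rcases hn.eq_bot_or_eq_top with hb | ht
    · have e' : G ≃* Equiv.Perm (Fin 4) :=
        Subgroup.topEquiv.symm.trans ((QuotientGroup.quotientBot.symm.trans
          (QuotientGroup.quotientMulEquivOfEq hb.symm)).trans e)
      set g : G →* ℤˣ := Equiv.Perm.sign.comp e'.toMonoidHom
      haveI := h.simple
      rcases (inferInstance : g.ker.Normal).eq_bot_or_eq_top with hk | hk
      · exact h.not_comm fun a b => (MonoidHom.ker_eq_bot_iff g).1 hk (by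
          rw [map_mul, map_mul, mul_comm])
      · have h1 : g (e'.symm (Equiv.swap 0 1)) = 1 :=
          MonoidHom.mem_ker.1 (hk ▸ Subgroup.mem_top _)
        rw [show g (e'.symm (Equiv.swap 0 1)) = Equiv.Perm.sign (e' (e'.symm (Equiv.swap 0 1))) from rfl,
          e'.apply_symm_apply, Equiv.Perm.sign_swap (by decide)] at h1
        exact absurd h1 (by decide)
    · have h1 : Nat.card (↥(⊤ : Subgroup G) ⧸ R.subgroupOf ⊤) = 1 := by
        rw [← Subgroup.index_eq_card, ht, Subgroup.index_top]
      omega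
  obtain ⟨H, hHK, -, hnil, k, hk⟩ := h.exists_hall hKtop
  set f : ↥K →* Equiv.Perm (Fin 4) := e.toMonoidHom.comp (QuotientGroup.mk' (R.subgroupOf K))
  have hf : Function.Surjective f :=
    e.surjective.comp (QuotientGroup.mk'_surjective (R.subgroupOf K))
  have hidx : ((H.subgroupOf K).map f).index = 1 := by
    have h1 : ((H.subgroupOf K).map f).index ∣ p ^ k := hk ▸ Subgroup.index_map_dvd _ hf
    have h2 : ((H.subgroupOf K).map f).index ∣ 24 := by
      have := Subgroup.index_dvd_card ((H.subgroupOf K).map f)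
      rwa [Nat.card_perm, Nat.card_fin] at this
    refine Nat.eq_one_of_dvd_coprimes ?_ h1 h2
    refine Nat.Coprime.pow_left k ((h.prime.coprime_iff_not_dvd).2 fun hd => ?_)
    have := h.five_le
    rcases (show p ∣ 2 ^ 3 * 3 by simpa using hd) |> h.prime.dvd_mul.1 with h3 | h3
    · have := Nat.le_of_dvd (by norm_num) (h.prime.dvd_of_dvd_pow h3); omega
    · have := Nat.le_of_dvd (by norm_num) h3; omega
  haveI : Group.IsNilpotent ↥(H.subgroupOf K) :=
    Group.nilpotent_of_mulEquiv (Subgroup.subgroupOfEquivOfLe hHK).symm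
  haveI hnp : Group.IsNilpotent ↥((H.subgroupOf K).map f) :=
    Group.nilpotent_of_surjective (f.subgroupMap (H.subgroupOf K))
      (MonoidHom.subgroupMap_surjective f _)
  rw [Subgroup.index_eq_one.1 hidx] at hnp
  have hc := CNGroup.Basic.commute_of_mem_nilpotent hnp
    (Subgroup.mem_top (Equiv.swap (0 : Fin 4) 1))
    (Subgroup.mem_top (Equiv.swap (0 : Fin 4) 1 * Equiv.swap 1 2)) (by
      rw [show orderOf (Equiv.swap (0 : Fin 4) 1) = 2 from orderOf_eq_prime (by decide) (by decide),
        show orderOf (Equiv.swap (0 : Fin 4) 1 * Equiv.swap 1 2) = 3 from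
          orderOf_eq_prime (by decide) (by decide)]
      decide)
  exact absurd hc (by decide)

end Cfsg.Agent.Lib.NilPrime33
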