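import Cfsg.Agent.Lib.NilPrime33.Endgame

/-!
# Groups whose proper `p'`-subgroups are nilpotent: the count

Owner: helper33. Namespace `Cfsg.Agent.Lib.NilPrime33`.
-/

set_option autoImplicit false
set_option linter.unusedSectionVars false
set_option linter.style.haveILetI false

open scoped Pointwise
open Cfsg.Agent.Lib.Involutions Cfsg.Agent.Lib.Involutions.Basic MulAction

namespace Cfsg.Agent.Lib.NilPrime33

universe u

variable {G : Type u} [Group G] [Finite G] {p : ℕ} {M : Subgroup G}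

theorem smul_mk_iff {g k : G} : g • (k : G ⧸ M) = (k : G ⧸ M) ↔ k⁻¹ * g * k ∈ M :=
  StronglyEmbedded.smul_coset_eq_iff

/-- An involution exchanges the points it relates. -/
theorem swap_back {α : Type*} [MulAction G α] {v : G} (hv : orderOf v = 2) {x y : α}
    (h : v • x = y) : v • y = x := by
  rw [← h, ← mul_smul, invol_mul_self hv, one_smul]

/-- A Sylow `p`-subgroup of `M` is one of the whole group. -/
theorem Emb.syl_card (h : Emb p G M) {R : Subgroup G} (hR : IsSyl p M R) :
    Nat.card R = p ^ (Nat.card G).factorization p := by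
  classical
  haveI := Fact.mk h.base.prime
  haveI : Fact (Nat.Prime 2) := ⟨Nat.prime_two⟩
  by_contra hne
  obtain ⟨S, hRS⟩ := (h.isPGroup_syl hR).exists_le_sylow
  have hlt : R < (S : Subgroup G) := lt_of_le_of_ne hRS fun e => hne (by
    rw [e, S.card_eq_multiplicity])
  haveI : Group.IsNilpotent (S : Subgroup G) := S.2.isNilpotent
  obtain ⟨g, ⟨hgS, hgN⟩, hgR⟩ := SetLike.exists_of_lt (StronglyEmbedded.lt_inf_normalizer hlt)
  set P₁ := R ⊔ Subgroup.zpowers g with hP₁
  have hP₁p : IsPGroup p P₁ := S.2.to_le (sup_le hRS (Subgroup.zpowers_le.2 hgS))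
  set X := Subgroup.normalizer (R : Set G) with hX
  have hP₁X : P₁ ≤ X := sup_le Subgroup.le_normalizer (Subgroup.zpowers_le.2 hgN)
  have hP₁lt : Nat.card R < Nat.card P₁ := by
    refine lt_of_le_of_ne (Subgroup.card_le_of_le le_sup_left) fun e => hgR ?_
    rw [Subgroup.eq_of_le_of_card_ge (le_sup_left : R ≤ P₁) e.ge]
    exact Subgroup.mem_sup_right (Subgroup.mem_zpowers g)
  -- conjugates of `P₁` avoid `M`
  have hP₁M : ∀ k : G, ¬ ∀ y ∈ P₁, k⁻¹ * y * k ∈ M := by
    intro k hk
    have hle : P₁.map (MulAut.conj k⁻¹).toMonoidHom ≤ M := by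
      rintro _ ⟨y, hy, rfl⟩; simpa using hk y hy
    have := h.card_le_of_le hR (hP₁p.map _) hle
    rw [Subgroup.card_map_of_injective (MulAut.conj k⁻¹).injective] at this
    omega
  have hR1 : R ≠ ⊥ := by
    intro hbot
    obtain ⟨a, b, haM, hbM, ha, hb, hab, -⟩ := h.four
    obtain ⟨r, hr, e⟩ := h.trans hR ha haM hb hbM
    rw [hbot, Subgroup.mem_bot] at hr
    rw [hr, one_mul, inv_one, mul_one] at e
    exact hab e
  have hRtop : R ≠ ⊤ := fun e => h.se.1 (top_le_iff.1 (e ▸ hR.1))
  have hXne : X ≠ ⊤ := h.base.normalizer_ne_top hR1 hRtop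
  -- the fixed points
  set Φ := {x : G ⧸ M // ∀ r ∈ R, r • x = x}
  have hconjR : ∀ k : G, (∀ r ∈ R, r • (k : G ⧸ M) = (k : G ⧸ M)) →
      IsSyl p M (R.map (MulAut.conj k⁻¹).toMonoidHom) := by
    intro k hk
    refine ⟨?_, by rw [Subgroup.card_map_of_injective (MulAut.conj k⁻¹).injective, hR.2]⟩
    rintro _ ⟨r, hr, rfl⟩
    simpa using smul_mk_iff.1 (hk r hr)
  -- no involution of `X` fixes a point of `Φ`
  have hmove : ∀ t : G, orderOf t = 2 → t ∈ X → ∀ x : Φ, t • x.1 ≠ x.1 := by
    rintro t ht htX ⟨x, hx⟩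
    induction x using QuotientGroup.induction_on with
    | H k =>
      intro e
      have htM : k⁻¹ * t * k ∈ M := smul_mk_iff.1 e
      refine h.not_mem_normalizer (hconjR k hx) ((?_ : orderOf (k⁻¹ * t * k) = 2)) htM ?_
      · have := orderOf_conj_eq k⁻¹ t
        rw [inv_inv] at this
        rw [this, ht]
      · have h1 := Subgroup.le_normalizer_map (MulAut.conj k⁻¹).toMonoidHom
          (Subgroup.mem_map_of_mem (MulAut.conj k⁻¹).toMonoidHom htX)
        simpa using h1
  -- `X` has no two commuting involutions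
  have hnofour : ∀ v w : G, orderOf v = 2 → orderOf w = 2 → v ∈ X → w ∈ X → v * w = w * v →
      v = w := by
    intro v w hv hw hvX hwX hvw
    by_contra hne'
    obtain ⟨c, hc, huniq⟩ := Fusion.Swappers.existsUnique_fixed h.se hv
    have hwc : w • c = c := huniq _ (show v • w • c = w • c by
      rw [← mul_smul, hvw, mul_smul, hc])
    induction c using QuotientGroup.induction_on with
    | H k =>
      set X' := X.map (MulAut.conj k⁻¹).toMonoidHom with hX'
      have hX'ne : X' ≠ ⊤ := fun e => hXne (by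
        apply Subgroup.map_injective (f := (MulAut.conj k⁻¹).toMonoidHom) (MulAut.conj k⁻¹).injective
        rw [← hX', e, Subgroup.map_top_of_surjective _ (MulAut.conj k⁻¹).surjective])
      have hord : ∀ y : G, orderOf y = 2 → orderOf (k⁻¹ * y * k) = 2 := by
        intro y hy
        have := orderOf_conj_eq k⁻¹ y
        rw [inv_inv] at this
        rw [this, hy]
      have hle : X' ≤ M := h.le_of_four hX'ne (a := k⁻¹ * v * k) (b := k⁻¹ * w * k)
        ⟨v, hvX, by simp⟩ ⟨w, hwX, by simp⟩ (smul_mk_iff.1 hc) (smul_mk_iff.1 hwc)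
        (hord v hv) (hord w hw) (fun e => hne' (by simpa using e))
        (by
          calc k⁻¹ * v * k * (k⁻¹ * w * k) = k⁻¹ * (v * w) * k := by group
            _ = k⁻¹ * w * k * (k⁻¹ * v * k) := by rw [hvw]; group)
      exact hP₁M k fun y hy => hle ⟨y, hP₁X hy, by simp⟩
  -- all involutions of `X` are conjugate
  set I := {v : G // orderOf v = 2 ∧ v ∈ X}
  have hconjI : ∀ v w : I, ∃ y ∈ X, y * (v : G) * y⁻¹ = w := by
    intro v w
    have hpg : ∀ v : I, IsPGroup 2 (Subgroup.zpowers (⟨v.1, v.2.2⟩ : X)) := fun v =>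
      IsPGroup.of_card (n := 1) (by rw [Nat.card_zpowers, ← Subgroup.orderOf_coe, v.2.1, pow_one])
    obtain ⟨Q, hQ⟩ := (hpg v).exists_le_sylow
    obtain ⟨Q', hQ'⟩ := (hpg w).exists_le_sylow
    obtain ⟨y, hy⟩ := MulAction.exists_smul_eq X Q Q'
    refine ⟨y, y.2, ?_⟩
    have hvQ : y * ⟨v.1, v.2.2⟩ * y⁻¹ ∈ (Q' : Subgroup X) := by
      rw [← hy, Sylow.coe_subgroup_smul]
      simpa using Subgroup.smul_mem_pointwise_smul (a := MulAut.conj y) _ (Q : Subgroup X)
        (hQ (Subgroup.mem_zpowers _))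
    have hwQ := hQ' (Subgroup.mem_zpowers (⟨w.1, w.2.2⟩ : X))
    set v' : G := (y : G) * v.1 * (y : G)⁻¹ with hv'
    have hv'2 : orderOf v' = 2 := (orderOf_conj_eq _ _).trans v.2.1
    haveI : Nontrivial (Q' : Subgroup X) := ⟨⟨⟨_, hwQ⟩, 1, fun e => invol_ne_one w.2.1
      (congrArg (fun z : (Q' : Subgroup X) => ((z : X) : G)) e)⟩⟩
    haveI := Q'.2.center_nontrivial
    obtain ⟨j, hj⟩ := IsPGroup.iff_card.1 (Q'.2.to_subgroup (Subgroup.center (Q' : Subgroup X)))
    have h2Z : 2 ∣ Nat.card (Subgroup.center (Q' : Subgroup X)) := by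
      rcases j with _ | j
      · have := Finite.one_lt_card (α := Subgroup.center (Q' : Subgroup X))
        rw [hj, pow_zero] at this
        omega
      · rw [hj]; exact dvd_pow_self 2 j.succ_ne_zero
    obtain ⟨z, hz⟩ := exists_prime_orderOf_dvd_card' 2 h2Z
    set z' : G := (((z : (Q' : Subgroup X)) : X) : G)
    have hz2 : orderOf z' = 2 := by
      rw [Subgroup.orderOf_coe, Subgroup.orderOf_coe, Subgroup.orderOf_coe, hz]
    have hzc : ∀ q : (Q' : Subgroup X), ((q : X) : G) * z' = z' * ((q : X) : G) := fun q =>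
      congrArg (fun z : (Q' : Subgroup X) => ((z : X) : G)) (Subgroup.mem_center_iff.1 z.2 q)
    have e1 := hnofour z' w.1 hz2 w.2.1 ((z : (Q' : Subgroup X)) : X).2 w.2.2 (hzc ⟨_, hwQ⟩).symm
    have e2 := hnofour z' v' hz2 hv'2 ((z : (Q' : Subgroup X)) : X).2
      (mul_mem (mul_mem y.2 v.2.2) (inv_mem y.2)) (hzc ⟨_, hvQ⟩).symm
    exact e2.symm.trans e1
  -- pairs of fixed points are exchanged in `X`
  set a : Φ := ⟨((1 : G) : G ⧸ M), fun r hr => smul_mk_iff.2 (by simpa using hR.1 hr)⟩ with ha_def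
  have hswap : ∀ x : {x : Φ // x ≠ a}, ∃ v : I, (v : G) • a.1 = x.1.1 := by
    rintro ⟨⟨x, hx⟩, hxa⟩
    have hax : a.1 ≠ x := fun e => hxa (Subtype.ext e.symm)
    have hm : 0 < Nat.card {t : G // orderOf t = 2 ∧ t ∈ M} := by
      obtain ⟨b, hb, hbM⟩ := Fusion.Swappers.exists_invol_mem h.se
      haveI : Nonempty {t : G // orderOf t = 2 ∧ t ∈ M} := ⟨⟨b, hb, hbM⟩⟩
      exact Nat.card_pos
    rw [← Fusion.Swappers.card_swap_pair h.se hax, Nat.card_pos_iff] at hm
    obtain ⟨⟨u, hu, hua⟩⟩ := hm.1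
    have hux := swap_back hu hua
    -- the two point stabiliser
    set D := stabilizer G a.1 ⊓ stabilizer G x with hD
    have hmemD : ∀ y, y ∈ D ↔ y • a.1 = a.1 ∧ y • x = x := fun y => by
      simp [hD, Subgroup.mem_inf, mem_stabilizer_iff]
    have hRD : R ≤ D := fun r hr => (hmemD r).2 ⟨a.2 r hr, hx r hr⟩
    have hDM : D ≤ M := fun y hy => by
      simpa using smul_mk_iff.1 ((hmemD y).1 hy).1
    have hodd : Odd (Nat.card D) := by
      rw [odd_card_iff_no_invol]
      intro y hy hy2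
      obtain ⟨c, -, huniq⟩ := Fusion.Swappers.existsUnique_fixed h.se hy2
      exact hax ((huniq _ ((hmemD y).1 hy).1).trans (huniq _ ((hmemD y).1 hy).2).symm)
    have huD : ∀ y ∈ D, u * y * u⁻¹ ∈ D := by
      intro y hy
      obtain ⟨h1, h2⟩ := (hmemD y).1 hy
      rw [invol_inv hu, hmemD]
      refine ⟨?_, ?_⟩
      · rw [mul_smul, mul_smul, hua, h2, hux]
      · rw [mul_smul, mul_smul, hux, h1, hua]
    have hnd : ¬ p ∣ (R.subgroupOf D).index := by
      intro hd
      have hidx : Nat.card R * R.relIndex D = Nat.card D := by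
        have h0 := Subgroup.relIndex_mul_relIndex ⊥ R D bot_le hRD
        rwa [Subgroup.relIndex_bot_left, Subgroup.relIndex_bot_left] at h0
      have h1 : p ^ ((Nat.card M).factorization p + 1) ∣ Nat.card M := by
        refine dvd_trans ?_ (Subgroup.card_dvd_of_le hDM)
        rw [← hidx, hR.2, pow_succ]
        exact Nat.mul_dvd_mul_left _ hd
      exact Nat.not_succ_le_self _
        ((h.base.prime.pow_dvd_iff_le_factorization Nat.card_pos.ne').1 h1)
    set RS : Sylow p D := ((h.isPGroup_syl hR).comap_subtype (K := D)).toSylow hnd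
    have hRS : (RS : Subgroup D) = R.subgroupOf D := rfl
    set R' := R.map (MulAut.conj u).toMonoidHom with hR'
    have hR'D : R' ≤ D := by
      rintro _ ⟨r, hr, rfl⟩
      simpa using huD r (hRD hr)
    obtain ⟨Q, hQ⟩ := (((h.isPGroup_syl hR).map (MulAut.conj u).toMonoidHom).comap_subtype
      (K := D)).exists_le_sylow
    obtain ⟨d, hd⟩ := MulAction.exists_smul_eq D RS Q
    have hconj : ∀ r ∈ R, ((d : G)⁻¹ * u) * r * ((d : G)⁻¹ * u)⁻¹ ∈ R := by
      intro r hr
      have hmem : (⟨u * r * u⁻¹, huD r (hRD hr)⟩ : D) ∈ (Q : Subgroup D) :=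
        hQ (Subgroup.mem_subgroupOf.2 ⟨r, hr, by simp⟩)
      rw [← hd, Sylow.coe_subgroup_smul, Subgroup.mem_pointwise_smul_iff_inv_smul_mem] at hmem
      have h1 : (d⁻¹ * (⟨u * r * u⁻¹, huD r (hRD hr)⟩ : D) * d) ∈ (RS : Subgroup D) := by
        simpa using hmem
      rw [hRS, Subgroup.mem_subgroupOf] at h1
      simpa [mul_assoc] using h1
    set w := (d : G)⁻¹ * u with hw
    have hwX : w ∈ X := by
      rw [hX, Subgroup.mem_normalizer_iff_map_conj_eq]
      refine Subgroup.eq_of_le_of_card_ge ?_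
        (Subgroup.card_map_of_injective (MulAut.conj w).injective).ge
      rintro _ ⟨r, hr, rfl⟩
      exact hconj r hr
    obtain ⟨hda, hdx⟩ := (hmemD _).1 (inv_mem d.2)
    have hwa : w • a.1 = x := by rw [hw, mul_smul, hua, hdx]
    have hwx : w • x = a.1 := by rw [hw, mul_smul, hux, hda]
    have hw2 : w * w ∈ D := (hmemD _).2 ⟨by rw [mul_smul, hwa, hwx], by rw [mul_smul, hwx, hwa]⟩
    obtain ⟨j, hj⟩ := hodd.of_dvd_nat (Subgroup.orderOf_dvd_natCard D hw2)
    set v := w ^ orderOf (w * w) with hv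
    have hva : v • a.1 = x := by
      rw [hv, hj, pow_succ', pow_mul, pow_two, mul_smul]
      have hfix : ∀ n : ℕ, (w * w) ^ n • a.1 = a.1 := fun n => ((hmemD _).1 (pow_mem hw2 n)).1
      rw [hfix, hwa]
    have hv2 : orderOf v = 2 := by
      refine orderOf_eq_prime ?_ fun e => hax ?_
      · rw [hv, ← pow_mul, mul_comm, pow_mul, pow_two w, pow_orderOf_eq_one]
      · rw [e, one_smul] at hva; exact hva
    exact ⟨⟨v, hv2, pow_mem hwX _⟩, hva⟩
  -- the fibres
  let cnt : I → ℕ := fun v => Nat.card {w : I // (w : G) * (v : G) ∈ R}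
  have hfibre : ∀ (x : {x : Φ // x ≠ a}) (v : I), (v : G) • a.1 = x.1.1 →
      Nat.card {w : I // (w : G) • a.1 = x.1.1} = cnt v := by
    intro x v hv
    refine Nat.card_congr (Equiv.subtypeEquivRight fun w => ⟨fun hw => ?_, fun hw => ?_⟩)
    · set d := (w : G) * (v : G) with hd
      have hdX : d ∈ X := mul_mem w.2.2 v.2.2
      have hda : d • a.1 = a.1 := by rw [hd, mul_smul, hv, swap_back w.2.1 hw]
      have hdx : d • x.1.1 = x.1.1 := by rw [hd, mul_smul, swap_back v.2.1 hv, hw]
      have hdM : d ∈ M := by simpa using smul_mk_iff.1 hda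
      have hinv : (v : G) * d * (v : G)⁻¹ = d⁻¹ := by
        rw [hd, mul_inv_rev, invol_inv v.2.1, invol_inv w.2.1]
        simp [mul_assoc, invol_mul_self v.2.1]
      have hpd : ∀ q : ℕ, q.Prime → q ∣ orderOf d → q = p := by
        intro q hq hqd
        rcases h.base.dvd_of_inverted v.2.1 hinv hq hqd with e | rfl
        · exact e
        · exfalso
          have h2 := orderOf_pow_orderOf_div (orderOf_pos d).ne' hqd
          obtain ⟨c, -, huniq⟩ := Fusion.Swappers.existsUnique_fixed h.se h2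
          refine x.2 (Subtype.ext ((huniq _ ?_).trans (huniq _ ?_).symm))
          · exact MulAction.mem_stabilizer_iff.1 (pow_mem (MulAction.mem_stabilizer_iff.2 hdx) _)
          · exact MulAction.mem_stabilizer_iff.1 (pow_mem (MulAction.mem_stabilizer_iff.2 hda) _)
      have hdp : IsPGroup p (Subgroup.zpowers d) := by
        refine IsPGroup.of_card (n := (orderOf d).primeFactorsList.length) ?_
        rw [Nat.card_zpowers]
        exact Nat.eq_prime_pow_of_unique_prime_dvd (orderOf_pos d).ne' fun hq hqd => hpd _ hq hqd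
      have hsup : IsPGroup p (R ⊔ Subgroup.zpowers d : Subgroup G) :=
        (h.isPGroup_syl hR).to_sup_of_normal_left' hdp (Subgroup.zpowers_le.2 hdX)
      have := h.card_le_of_le hR hsup (sup_le hR.1 (Subgroup.zpowers_le.2 hdM))
      rw [Subgroup.eq_of_le_of_card_ge (le_sup_left : R ≤ R ⊔ Subgroup.zpowers d) this]
      exact Subgroup.mem_sup_right (Subgroup.mem_zpowers d)
    · have h1 : ((w : G) * (v : G)) • x.1.1 = x.1.1 := x.1.2 _ hw
      rwa [mul_smul, swap_back v.2.1 hv] at h1
  have hcnt : ∀ v w : I, cnt v = cnt w := by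
    intro v w
    obtain ⟨y, hy, hyv⟩ := hconjI v w
    have hyR : ∀ r : G, r ∈ R ↔ y * r * y⁻¹ ∈ R := Subgroup.mem_normalizer_iff.1 hy
    refine Nat.card_congr
      { toFun := fun z => ⟨⟨y * (z.1 : G) * y⁻¹, (orderOf_conj_eq _ _).trans z.1.2.1,
            mul_mem (mul_mem hy z.1.2.2) (inv_mem hy)⟩, by
          show y * (z.1 : G) * y⁻¹ * (w : G) ∈ R
          rw [← hyv]
          have := (hyR _).1 z.2
          simpa [mul_assoc] using this⟩
        invFun := fun z => ⟨⟨y⁻¹ * (z.1 : G) * y, by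
            have := orderOf_conj_eq y⁻¹ (z.1 : G)
            rw [inv_inv] at this
            exact this.trans z.1.2.1, mul_mem (mul_mem (inv_mem hy) z.1.2.2) hy⟩, by
          show y⁻¹ * (z.1 : G) * y * (v : G) ∈ R
          rw [hyR]
          have h' : (z.1 : G) * (y * (v : G) * y⁻¹) ∈ R := hyv.symm ▸ z.2
          simpa [mul_assoc] using h'⟩
        left_inv := fun z => Subtype.ext (Subtype.ext (by simp [mul_assoc]))
        right_inv := fun z => Subtype.ext (Subtype.ext (by simp [mul_assoc])) }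
  -- a prime divisor of the number of fixed points
  have hdvd : p ∣ Nat.card Φ := by
    have hstab : ∀ y : P₁, ∀ x : Φ, ∀ r ∈ R, r • ((y : G) • x.1) = (y : G) • x.1 := by
      intro y x r hr
      have h1 : (y : G)⁻¹ * r * (y : G) ∈ R := by
        have := (Subgroup.mem_normalizer_iff.1 (inv_mem (hP₁X y.2)) r).1 hr
        rwa [inv_inv] at this
      have h2 := x.2 _ h1
      rw [mul_smul, mul_smul] at h2
      exact (inv_smul_eq_iff.1 h2)
    letI : MulAction P₁ Φ :=
      { smul := fun y x => ⟨(y : G) • x.1, hstab y x⟩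
        one_smul := fun x => Subtype.ext (one_smul G x.1)
        mul_smul := fun y z x => Subtype.ext (mul_smul (y : G) (z : G) x.1) }
    have hfix : Nat.card (MulAction.fixedPoints P₁ Φ) = 0 := by
      rw [Nat.card_eq_zero]
      left
      refine ⟨fun z => ?_⟩
      obtain ⟨k, hk⟩ := QuotientGroup.mk_surjective z.1.1
      refine hP₁M k fun y hy => smul_mk_iff.1 ?_
      have := congrArg Subtype.val (z.2 ⟨y, hy⟩)
      rw [hk]
      exact this
    have hmod := hP₁p.card_modEq_card_fixedPoints (α := Φ)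
    rw [hfix] at hmod
    exact Nat.modEq_zero_iff_dvd.1 hmod
  -- counting
  haveI : Nonempty Φ := ⟨a⟩
  have hf2 : 2 ≤ Nat.card Φ :=
    le_trans h.base.prime.two_le (Nat.le_of_dvd Nat.card_pos hdvd)
  have hsplit : Nat.card Φ = Nat.card {x : Φ // x ≠ a} + 1 := by
    haveI := Fintype.ofFinite Φ
    rw [Nat.card_eq_fintype_card, Nat.card_eq_fintype_card,
      Fintype.card_subtype_compl, Fintype.card_subtype_eq]
    have := Fintype.card_pos_iff.2 ⟨a⟩
    omega
  haveI : Nonempty {x : Φ // x ≠ a} := (Nat.card_pos_iff.1 (by omega)).1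
  obtain ⟨v₀, -⟩ := hswap (Classical.arbitrary _)
  have htot : Nat.card I = Nat.card {x : Φ // x ≠ a} * cnt v₀ := by
    have hto : ∀ v : I, ∀ r ∈ R, r • ((v : G) • a.1) = (v : G) • a.1 := by
      intro v r hr
      have h1 : (v : G)⁻¹ * r * (v : G) ∈ R := by
        have := (Subgroup.mem_normalizer_iff.1 (inv_mem v.2.2) r).1 hr
        rwa [inv_inv] at this
      have h2 := a.2 _ h1
      rw [mul_smul, mul_smul] at h2
      exact (inv_smul_eq_iff.1 h2)
    let e : I ≃ Σ x : {x : Φ // x ≠ a}, {w : I // (w : G) • a.1 = x.1.1} :=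
      { toFun := fun v => ⟨⟨⟨(v : G) • a.1, hto v⟩,
          fun e => hmove v v.2.1 v.2.2 a (congrArg Subtype.val e)⟩, v, rfl⟩
        invFun := fun z => z.2.1
        left_inv := fun _ => rfl
        right_inv := by
          rintro ⟨⟨⟨x, hx⟩, hxa⟩, v, hv⟩
          change (v : G) • a.1 = x at hv
          subst hv
          rfl }
    haveI := Fintype.ofFinite {x : Φ // x ≠ a}
    rw [Nat.card_congr e, Nat.card_sigma, Finset.sum_congr rfl (fun x _ => (by
      obtain ⟨v, hv⟩ := hswap x
      exact (hfibre x v hv).trans (hcnt v v₀))), Finset.sum_const, Finset.card_univ, smul_eq_mul,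
      Nat.card_eq_fintype_card]
  -- the involutions of `X` form a class of `p`-power size
  obtain ⟨H, hHX, hHp, hnil, k, hk⟩ := h.base.exists_hall hXne
  have hIpow : Nat.card I ∣ p ^ k := by
    have h2X : 2 ∣ Nat.card X := by
      rw [← v₀.2.1]; exact Subgroup.orderOf_dvd_natCard X v₀.2.2
    have h2H : 2 ∣ Nat.card H := by
      have h0 := Subgroup.relIndex_mul_relIndex ⊥ H X bot_le hHX
      rw [Subgroup.relIndex_bot_left, Subgroup.relIndex_bot_left, hk] at h0
      exact (h.base.coprime_two.pow_right k).dvd_of_dvd_mul_right (h0 ▸ h2X)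
    obtain ⟨z, hz2, hzc⟩ := exists_central_invol hnil h2H
    set zI : I := ⟨(z : G), by rw [Subgroup.orderOf_coe, hz2], hHX z.2⟩
    set zX : X := ⟨(z : G), hHX z.2⟩
    have e : Nat.card I = Nat.card (MulAction.orbit (ConjAct X) zX) := by
      have hto : ∀ c : X, c ∈ MulAction.orbit (ConjAct X) zX → orderOf (c : G) = 2 := by
        rintro _ ⟨y, rfl⟩
        show orderOf ((ConjAct.toConjAct (ConjAct.ofConjAct y) • zX : X) : G) = 2
        rw [ConjAct.toConjAct_smul, Subgroup.coe_mul, Subgroup.coe_mul, Subgroup.coe_inv,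
          orderOf_conj_eq]
        exact zI.2.1
      have hinv : ∀ v : I, (⟨v.1, v.2.2⟩ : X) ∈ MulAction.orbit (ConjAct X) zX := by
        intro v
        obtain ⟨y, hy, hyv⟩ := hconjI zI v
        refine ⟨ConjAct.toConjAct (⟨y, hy⟩ : X), Subtype.ext ?_⟩
        show ((ConjAct.toConjAct (⟨y, hy⟩ : X) • zX : X) : G) = v.1
        rw [ConjAct.toConjAct_smul]
        exact hyv
      let q : I ≃ MulAction.orbit (ConjAct X) zX :=
        { toFun := fun v => ⟨⟨v.1, v.2.2⟩, hinv v⟩
          invFun := fun c => ⟨(c.1 : G), hto c.1 c.2, c.1.2⟩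
          left_inv := fun _ => rfl
          right_inv := fun _ => rfl }
      exact Nat.card_congr q
    rw [e, Nat.card_coe_set_eq, ← MulAction.index_stabilizer, ← hk, Subgroup.relIndex]
    have hle : H.subgroupOf X ≤
        (MulAction.stabilizer (ConjAct X) zX).comap (ConjAct.toConjAct : X ≃* ConjAct X).toMonoidHom := by
      intro y hy
      rw [Subgroup.mem_comap, MulAction.mem_stabilizer_iff]
      refine Subtype.ext ?_
      show ((ConjAct.toConjAct y • zX : X) : G) = (z : G)
      rw [ConjAct.toConjAct_smul, Subgroup.coe_mul, Subgroup.coe_mul, Subgroup.coe_inv]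
      have := congrArg Subtype.val (hzc ⟨y, hy⟩)
      simp only [Subgroup.coe_mul] at this
      show (y : G) * (z : G) * (y : G)⁻¹ = z
      rw [this, mul_inv_cancel_right]
    have := Subgroup.index_dvd_of_le hle
    rwa [Subgroup.index_comap_of_surjective _ (ConjAct.toConjAct : X ≃* ConjAct X).surjective] at this
  have hf1 : Nat.card {x : Φ // x ≠ a} ∣ p ^ k := dvd_trans (htot ▸ dvd_mul_right _ _) hIpow
  obtain ⟨i, -, hi⟩ := (Nat.dvd_prime_pow h.base.prime).1 hf1
  rw [hsplit, hi] at hdvd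
  rcases i with _ | i
  · rw [pow_zero] at hdvd
    have := Nat.le_of_dvd (by norm_num) hdvd
    have := h.base.five_le
    omega
  · exact h.base.prime.not_dvd_one ((Nat.dvd_add_right (dvd_pow_self p i.succ_ne_zero)).1 hdvd)

/-- The setting has no strongly embedded subgroup with two commuting involutions. -/
theorem Emb.false (h : Emb p G M) : False := by
  classical
  haveI := Fact.mk h.base.prime
  obtain ⟨R, hR⟩ := h.exists_isSyl
  obtain ⟨P, hP⟩ := (h.isPGroup_syl hR).exists_le_sylow
  have hPR : (P : Subgroup G) = R :=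
    (Subgroup.eq_of_le_of_card_ge hP (by rw [P.card_eq_multiplicity, h.syl_card hR])).symm
  -- every `p`-element fixes a point
  have hfixp : ∀ w : G, IsPGroup p (Subgroup.zpowers w) → ∃ x : G ⧸ M, w • x = x := by
    intro w hw
    obtain ⟨Q, hQ⟩ := hw.exists_le_sylow
    obtain ⟨k, hk⟩ := MulAction.exists_smul_eq G P Q
    refine ⟨(k : G ⧸ M), smul_mk_iff.2 ?_⟩
    have hwQ : w ∈ (Q : Subgroup G) := hQ (Subgroup.mem_zpowers w)
    rw [← hk, Sylow.coe_subgroup_smul, Subgroup.mem_pointwise_smul_iff_inv_smul_mem, hPR] at hwQ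
    exact hR.1 (by simpa using hwQ)
  obtain ⟨t, ht, htM⟩ := Fusion.Swappers.exists_invol_mem h.se
  set o : G ⧸ M := ((1 : G) : G ⧸ M)
  set Inv := {i : G // orderOf i = 2 ∧ i ∈ M}
  set U := {u : G // orderOf u = 2 ∧ u ∉ M}
  -- each outer involution shares a pair with `t`
  have hkey : ∀ u : U, ∃ x : G ⧸ M, x ≠ o ∧ (u : G) • x = t • x := by
    intro u
    have hut : (u : G) ≠ t := fun e => u.2.2 (e ▸ htM)
    have hodd : Odd (orderOf (t * (u : G))) := by
      by_contra he
      rw [Nat.not_odd_iff_even] at he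
      obtain ⟨hz, hzt, hzu⟩ := central_invol ht u.2.1 he
      have hzM := StronglyEmbedded.centralizer_le h.se ht htM
        (Subgroup.mem_centralizer_singleton_iff.2 hzt.eq)
      exact u.2.2 (StronglyEmbedded.centralizer_le h.se hz hzM
        (Subgroup.mem_centralizer_singleton_iff.2 hzu.eq.symm))
    have hinv : t * (t * (u : G)) * t⁻¹ = (t * (u : G))⁻¹ := by
      rw [invol_inv ht]; exact invert_mul (invol_mul_self ht) (invol_mul_self u.2.1)
    have hpg : IsPGroup p (Subgroup.zpowers (t * (u : G))) := by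
      refine IsPGroup.of_card (n := (orderOf (t * (u : G))).primeFactorsList.length) ?_
      rw [Nat.card_zpowers]
      refine Nat.eq_prime_pow_of_unique_prime_dvd (orderOf_pos _).ne' fun {q} hq hqd => ?_
      rcases h.base.dvd_of_inverted ht hinv hq hqd with e | rfl
      · exact e
      · exact absurd (hodd.of_dvd_nat hqd) (by decide)
    obtain ⟨x, hx⟩ := hfixp _ hpg
    rw [mul_smul] at hx
    have hux : (u : G) • x = t • x := by
      have := congrArg (t • ·) hx
      simpa only [← mul_smul, ← mul_assoc, invol_mul_self ht, one_mul] using this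
    refine ⟨x, fun e => ?_, hux⟩
    rw [e] at hux
    have h1 : t • o = o := smul_mk_iff.2 (by simpa using htM)
    rw [h1] at hux
    exact u.2.2 (by simpa using smul_mk_iff.1 hux)
  choose f hf1 hf2 using hkey
  set Tgt := Σ x : {x : G ⧸ M // x ≠ o},
    {i : G // (orderOf i = 2 ∧ i • x.1 = t • x.1) ∧ i ≠ t}
  let F : U → Tgt := fun u => ⟨⟨f u, hf1 u⟩, u, ⟨u.2.1, hf2 u⟩, fun e => u.2.2 (e ▸ htM)⟩
  have hFinj : Function.Injective F := by
    intro u u' he
    exact Subtype.ext (congrArg (fun z : Tgt => (z.2 : G)) he)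
  have hle := Nat.card_le_card_of_injective F hFinj
  -- sizes
  haveI := Fintype.ofFinite {x : G ⧸ M // x ≠ o}
  have hTgt : Nat.card Tgt = Nat.card {x : G ⧸ M // x ≠ o} * (Nat.card Inv - 1) := by
    suffices hfib : ∀ x : {x : G ⧸ M // x ≠ o},
        Nat.card {i : G // (orderOf i = 2 ∧ i • x.1 = t • x.1) ∧ i ≠ t} = Nat.card Inv - 1 by
      rw [Nat.card_sigma, Finset.sum_congr rfl (fun x _ => hfib x),
        Finset.sum_const, Finset.card_univ, smul_eq_mul,
        Nat.card_eq_fintype_card (α := {x : G ⧸ M // x ≠ o})]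
    intro x
    have hxt : x.1 ≠ t • x.1 := by
      intro e
      obtain ⟨c, -, huniq⟩ := Fusion.Swappers.existsUnique_fixed h.se ht
      exact x.2 ((huniq _ e.symm).trans (huniq o (smul_mk_iff.2 (by simpa using htM))).symm)
    rw [← Fusion.Swappers.card_swap_pair h.se hxt]
    haveI := Fintype.ofFinite {i : G // orderOf i = 2 ∧ i • x.1 = t • x.1}
    rw [← Nat.card_congr (Equiv.subtypeSubtypeEquivSubtypeInter
      (fun i : G => orderOf i = 2 ∧ i • x.1 = t • x.1) (fun i => i ≠ t))]
    rw [Nat.card_congr (Equiv.subtypeEquivRight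
      (q := fun i : {i : G // orderOf i = 2 ∧ i • x.1 = t • x.1} => i ≠ ⟨t, ht, rfl⟩) fun i => by
      rw [Ne, Ne, Subtype.ext_iff]), Nat.card_eq_fintype_card, Nat.card_eq_fintype_card,
      Fintype.card_subtype_compl, Fintype.card_subtype_eq]
  have hU : Nat.card U + Nat.card Inv = Nat.card (G ⧸ M) * Nat.card Inv := by
    rw [← Fusion.Swappers.card_invol h.se, ← Nat.card_sum]
    exact Nat.card_congr
      (((Equiv.subtypeSubtypeEquivSubtypeInter (fun i : G => orderOf i = 2) (fun i => i ∉ M)).symm.sumCongr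
        (Equiv.subtypeSubtypeEquivSubtypeInter (fun i : G => orderOf i = 2) (fun i => i ∈ M)).symm).trans
        ((Equiv.sumComm _ _).trans (Equiv.sumCompl fun i : {i : G // orderOf i = 2} => (i : G) ∈ M)))
  have hn : Nat.card (G ⧸ M) = Nat.card {x : G ⧸ M // x ≠ o} + 1 := by
    haveI := Fintype.ofFinite (G ⧸ M)
    rw [Nat.card_eq_fintype_card, Nat.card_eq_fintype_card, Fintype.card_subtype_compl,
      Fintype.card_subtype_eq]
    have := Fintype.card_pos_iff.2 ⟨o⟩
    omega
  have hn2 : 0 < Nat.card {x : G ⧸ M // x ≠ o} := by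
    have h1 : 1 < Nat.card (G ⧸ M) := by
      rw [← Subgroup.index_eq_card]
      exact Nat.one_lt_iff_ne_zero_and_ne_one.2
        ⟨Subgroup.index_ne_zero_of_finite, fun e => h.se.1 (Subgroup.index_eq_one.1 e)⟩
    omega
  have hm : 0 < Nat.card Inv := by
    haveI : Nonempty Inv := ⟨⟨t, ht, htM⟩⟩
    exact Nat.card_pos
  rw [hTgt] at hle
  rw [hn] at hU
  nlinarith [Nat.sub_add_cancel hm]

end Cfsg.Agent.Lib.NilPrime33
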