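import Cfsg.Agent.Lib.NilPrime33.Count
import Cfsg.Agent.Lib.FTDeps.Row3110
import Cfsg.Agent.Lib.Balance.Locals
import Cfsg.Agent.Lib.SFourFree.Locals
import Cfsg.Agent.Lib.OddOrder.FeitThompson
import Cfsg.Agent.Lib.ZStar.UniqueCase
import Cfsg.Agent.S2796

/-!
# Groups whose proper `p'`-subgroups are nilpotent: a strongly embedded subgroup exists

A strongly closed elementary abelian `2`-subgroup `A` of order at least eight gives the completion
`W` of the cores of involution centralisers.  If `W ≠ 1` its normaliser is strongly embedded;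
otherwise every `2`-local is of characteristic two and a maximal one is.

Owner: helper33. Namespace `Cfsg.Agent.Lib.NilPrime33`.
-/

set_option autoImplicit false
set_option linter.unusedSectionVars false
set_option linter.style.haveILetI false

open scoped Pointwise
open Cfsg.Agent.Lib.Involutions Cfsg.Agent.Lib.Involutions.Basic Cfsg

namespace Cfsg.Agent.Lib.NilPrime33

universe u

variable {G : Type u} [Group G] [Finite G] {p : ℕ}

theorem isSolvable_of_surj {H Q : Type*} [Group H] [Group Q] (hs : Group.IsSolvable H) (f : H →* Q)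
    (hf : Function.Surjective f) : Group.IsSolvable Q :=
  haveI := hs
  Group.isSolvable_of_surjective hf

/-- The group has even order. -/
theorem Setting.even (h : Setting p G) : Even (Nat.card G) := by
  by_contra hne
  exact h.nonsolv (OddOrder.FeitThompson.isSolvable_of_odd_card (Nat.not_even_iff_odd.1 hne))

theorem Setting.normal_odd_eq_bot (h : Setting p G) {N : Subgroup G} (hN : N.Normal)
    (hodd : Odd (Nat.card N)) : N = ⊥ := by
  refine h.eq_bot_of_normal hN fun e => ?_
  rw [e, Subgroup.card_top] at hodd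
  exact Nat.not_odd_iff_even.2 h.even hodd

theorem Setting.pCore_two (h : Setting p G) : Cfsg.pCore 2 G = ⊥ := by
  haveI : Fact (Nat.Prime 2) := ⟨Nat.prime_two⟩
  refine h.eq_bot_of_normal inferInstance fun e => h.nonsolv ?_
  have hG : IsPGroup 2 G := Cores.pCore_eq_top_iff.1 e
  haveI := hG.isNilpotent
  infer_instance

theorem Setting.two_group_normalizer (h : Setting p G) {T : Subgroup G} (hT : IsPGroup 2 T)
    (hne : T ≠ ⊥) : Subgroup.normalizer (T : Set G) ≠ ⊤ := by
  haveI : Fact (Nat.Prime 2) := ⟨Nat.prime_two⟩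
  refine h.normalizer_ne_top hne fun e => h.ne_top (H := T) ?_ e
  haveI := hT.isNilpotent
  infer_instance

/-- The sections condition holds vacuously. -/
theorem Setting.sections (h : Setting p G) (K R : Subgroup G) [hR : (R.subgroupOf K).Normal]
    (hc : Subgroup.centralizer (Cfsg.pCore 2 (K ⧸ R.subgroupOf K) : Set (K ⧸ R.subgroupOf K)) ≤
      Cfsg.pCore 2 (K ⧸ R.subgroupOf K)) :
    Cfsg.IsCompositionKGroupWith Cfsg.IsSuzukiOrPSL2OddPowerThree (K ⧸ R.subgroupOf K) := by
  intro H _ N _ hsimple hnc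
  exfalso
  haveI := hsimple
  by_cases hK : K = ⊤
  · subst hK
    haveI : IsSimpleGroup ↥(⊤ : Subgroup G) := by
      haveI := h.simple
      exact Subgroup.topEquiv.isSimpleGroup
    rcases hR.eq_bot_or_eq_top with hb | ht
    · have e : G ≃* (↥(⊤ : Subgroup G) ⧸ R.subgroupOf ⊤) :=
        Subgroup.topEquiv.symm.trans (QuotientGroup.quotientBot.symm.trans
          (QuotientGroup.quotientMulEquivOfEq hb.symm))
      rw [← Cores.map_pCore_equiv e, h.pCore_two, Subgroup.map_bot] at hc
      refine h.not_comm fun a b => ?_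
      have : ∀ x : G, x = 1 := fun x => e.injective (by
        rw [map_one]
        exact Subgroup.mem_bot.1 (hc (Subgroup.mem_centralizer_iff.2 fun y hy => by
          rw [Subgroup.mem_bot.1 hy, one_mul, mul_one])))
      rw [this a, this b]
    · haveI : Subsingleton (↥(⊤ : Subgroup G) ⧸ R.subgroupOf ⊤) := by
        rw [ht]; exact QuotientGroup.subsingleton_quotient_top
      haveI : Subsingleton (H ⧸ N) := QuotientGroup.mk_surjective.subsingleton
      exact not_subsingleton (H ⧸ N) inferInstance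
  · have hKs := isSolvable_of_surj (h.solv K hK) (QuotientGroup.mk' (R.subgroupOf K))
      (QuotientGroup.mk'_surjective _)
    haveI := hKs
    haveI : Group.IsSolvable H := Group.isSolvable_of_isSolvable_injective H.subtype_injective
    have hs := isSolvable_of_surj (inferInstance : Group.IsSolvable H) (QuotientGroup.mk' N)
      (QuotientGroup.mk'_surjective _)
    exact hnc ⟨⟨fun a b => IsSimpleGroup.comm_iff_isSolvable.2 hs a b⟩⟩

/-- The conjugate of a subgroup. -/
abbrev cj (g : G) (E : Subgroup G) : Subgroup G := E.map (MulAut.conj g).toMonoidHom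

theorem cj_cj (g k : G) (E : Subgroup G) : cj g (cj k E) = cj (g * k) E := by
  rw [cj, cj, cj, Subgroup.map_map]
  congr 1
  ext x; simp [mul_assoc]

/-- A strongly closed elementary abelian subgroup of order at least eight in a Sylow `2`-subgroup. -/
structure Closed (p : ℕ) (G : Type u) [Group G] [Finite G] (T : Sylow 2 G) (A : Subgroup G) :
    Prop where
  base : Setting p G
  elem : Cfsg.IsElementaryAbelian 2 A
  closed : Cfsg.IsStronglyClosed A (T : Subgroup G)
  eight : 8 ≤ Nat.card A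

theorem Setting.exists_closed (h : Setting p G) : ∃ T A, Closed p G T A := by
  haveI : Fact (Nat.Prime 2) := ⟨Nat.prime_two⟩
  obtain ⟨T⟩ := (inferInstance : Nonempty (Sylow 2 G))
  set A := (Subgroup.normalClosure (((Cfsg.omegaOne 2 ((T : Subgroup G) ⊓
    Subgroup.centralizer ((T : Subgroup G) : Set G))).subgroupOf
      (Subgroup.normalizer (Cfsg.thompsonSubgroupOf 2 (T : Subgroup G) : Set G))
        : Subgroup ↥(Subgroup.normalizer (Cfsg.thompsonSubgroupOf 2 (T : Subgroup G) : Set G))) :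
          Set ↥(Subgroup.normalizer (Cfsg.thompsonSubgroupOf 2 (T : Subgroup G) : Set G)))).map
      (Subgroup.normalizer (Cfsg.thompsonSubgroupOf 2 (T : Subgroup G) : Set G)).subtype with hA
  obtain ⟨hAT, hel, hsc, hctl⟩ := Cfsg.Agent.S2796.result h.not_involves_four
    (fun K R hR hc => @Setting.sections G _ _ p h K R hR hc) T _ rfl A hA
  refine ⟨T, A, h, hel, hsc, ?_⟩
  -- a central involution of `T` in `A`
  have hTne : (T : Subgroup G) ≠ ⊥ := T.ne_bot_of_dvd_card (even_iff_two_dvd.1 h.even)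
  set Z := Cfsg.omegaOne 2 ((T : Subgroup G) ⊓ Subgroup.centralizer ((T : Subgroup G) : Set G))
  have hZne : Z ≠ ⊥ := SFourFree.omegaCenterOf_ne_bot T.2 hTne
  obtain ⟨z, hzZ, hz1⟩ := Z.bot_or_exists_ne_one.resolve_left hZne
  have hzTC : z ∈ (T : Subgroup G) ⊓ Subgroup.centralizer ((T : Subgroup G) : Set G) :=
    PGroups.omegaOne_le 2 _ hzZ
  have hzN : z ∈ Subgroup.normalizer (Cfsg.thompsonSubgroupOf 2 (T : Subgroup G) : Set G) :=
    PGroups.normalizer_le_normalizer_thompson (T : Subgroup G) (Subgroup.le_normalizer hzTC.1)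
  have hzA : z ∈ A := by
    rw [hA]
    exact ⟨⟨z, hzN⟩, Subgroup.subset_normalClosure (Subgroup.mem_subgroupOf.2 hzZ), rfl⟩
  have hz2 : orderOf z = 2 := PGroups.elemAb_orderOf hel hzA hz1
  by_contra hlt
  obtain ⟨k, hk⟩ := IsPGroup.iff_card.1 (PGroups.elemAb_isPGroup hel)
  have hle4 : Nat.card A ≤ 4 := by
    rw [hk] at hlt ⊢
    rcases k with _ | _ | _ | k
    · norm_num
    · norm_num
    · norm_num
    · exact absurd (by
        calc 8 = 2 ^ 3 := rfl
          _ ≤ 2 ^ (k + 1 + 1 + 1) := Nat.pow_le_pow_right (by norm_num) (by omega)) hlt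
  -- elements of odd order normalising `A` fix it
  have hfix : Subgroup.normalizer (A : Set G) ≤ Subgroup.centralizer ({z} : Set G) := by
    set N := Subgroup.normalizer (A : Set G)
    have hTN : (T : Subgroup G) ≤ N := by
      intro s hs
      rw [Subgroup.mem_normalizer_iff_map_conj_eq]
      refine Subgroup.eq_of_le_of_card_ge ?_
        (Subgroup.card_map_of_injective (MulAut.conj s).injective).ge
      rintro _ ⟨a, ha, rfl⟩
      exact hsc.2 a ha s (mul_mem (mul_mem hs (hAT ha)) (inv_mem hs))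
    have hAne : A ≠ ⊥ := fun e => hz1 (Subgroup.mem_bot.1 (e ▸ hzA))
    have hAtop : A ≠ ⊤ := fun e => h.two_group_normalizer (T.2.to_le hAT) hAne
      (top_le_iff.1 ((e ▸ le_rfl : ⊤ ≤ A).trans Subgroup.le_normalizer))
    haveI : A.subgroupOf N |>.Normal := Subgroup.normal_subgroupOf_of_le_normalizer le_rfl
    set C := (Subgroup.centralizer ({z} : Set G)).subgroupOf N
    have hidx : C.index = 1 := by
      by_contra hne
      obtain ⟨q, hq, hqd⟩ := Nat.exists_prime_and_dvd hne
      haveI := Fact.mk hq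
      obtain ⟨Q⟩ := (inferInstance : Nonempty (Sylow q N))
      by_cases hq2 : q = 2
      · subst hq2
        have h1 : ((T : Subgroup G).subgroupOf N).index ∣ (T : Subgroup G).index :=
          Subgroup.relIndex_dvd_index_of_le hTN
        have h2 : C.index ∣ ((T : Subgroup G).subgroupOf N).index :=
          Subgroup.index_dvd_of_le (Subgroup.comap_mono fun s hs =>
            Subgroup.mem_centralizer_singleton_iff.2 (Subgroup.mem_centralizer_iff.1 hzTC.2 s hs))
        exact T.not_dvd_index (hqd.trans (h2.trans h1))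
      · refine Q.not_dvd_index (hqd.trans (Subgroup.index_dvd_of_le fun y hy => ?_))
        rw [Subgroup.mem_subgroupOf, Subgroup.mem_centralizer_singleton_iff]
        obtain ⟨j, hj⟩ := Q.2 ⟨y, hy⟩
        have hyj : (y : G) ^ q ^ j = 1 := congrArg (fun w : (Q : Subgroup N) => ((w : N) : G)) hj
        obtain ⟨i, -, hi⟩ := (Nat.dvd_prime_pow hq).1 (orderOf_dvd_of_pow_eq_one hyj)
        by_cases hqp : q = p
        · -- a `p`-element permuting at most three involutions
          subst hqp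
          letI : MulAction (Subgroup.zpowers (y : G)) {a : G // a ∈ A ∧ a ≠ 1} :=
            { smul := fun w a => ⟨(w : G) * a.1 * (w : G)⁻¹,
                (Subgroup.mem_normalizer_iff.1 ((Subgroup.zpowers_le.2 y.2) w.2) a.1).1 a.2.1,
                fun e => a.2.2 (conj_eq_one_iff.1 e)⟩
              one_smul := fun a => Subtype.ext (by
                show (1 : G) * a.1 * (1 : G)⁻¹ = a.1
                simp)
              mul_smul := fun v w a => Subtype.ext (by
                show ((v : G) * w) * a.1 * ((v : G) * w)⁻¹ = v * (w * a.1 * (w : G)⁻¹) * (v : G)⁻¹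
                group) }
          have hpg : IsPGroup q (Subgroup.zpowers (y : G)) :=
            IsPGroup.of_card (n := i) (by rw [Nat.card_zpowers, hi])
          obtain ⟨m, hm⟩ := hpg.card_orbit (⟨z, hzA, hz1⟩ : {a : G // a ∈ A ∧ a ≠ 1})
          have hlt3 : Nat.card (MulAction.orbit (Subgroup.zpowers (y : G))
              (⟨z, hzA, hz1⟩ : {a : G // a ∈ A ∧ a ≠ 1})) ≤ 4 := by
            refine le_trans ?_ hle4
            exact Nat.card_le_card_of_injective (fun a => (⟨a.1.1, a.1.2.1⟩ : A))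
              fun a b e => Subtype.ext (Subtype.ext (congrArg (fun w : A => (w : G)) e))
          rw [hm] at hlt3
          have hm0 : m = 0 := by
            by_contra hm0
            have := Nat.le_trans (Nat.le_self_pow hm0 q) hlt3
            have := h.five_le
            omega
          rw [hm0, pow_zero] at hm
          haveI := (Nat.card_eq_one_iff_unique.1 hm).1
          have := Subsingleton.elim
            (⟨(⟨(y : G), Subgroup.mem_zpowers _⟩ : Subgroup.zpowers (y : G)) • _,
              MulAction.mem_orbit _ _⟩ : MulAction.orbit (Subgroup.zpowers (y : G))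
              (⟨z, hzA, hz1⟩ : {a : G // a ∈ A ∧ a ≠ 1}))
            ⟨_, MulAction.mem_orbit_self _⟩
          have e : (y : G) * z * (y : G)⁻¹ = z :=
            congrArg (fun w : MulAction.orbit _ _ => (w.1.1 : G)) this
          calc (y : G) * z = y * z * (y : G)⁻¹ * y := by group
            _ = z * y := by rw [e]
        · exact (h.commute_of_normalizes hAtop y.2
            (by rw [hk]; exact (Nat.Coprime.pow_left _ h.coprime_two))
            (by rw [hi]; exact Nat.Coprime.pow_left _ ((Nat.coprime_primes hq h.prime).2 hqp))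
            (by rw [hi, hk]; exact Nat.Coprime.pow _ _ ((Nat.coprime_primes hq Nat.prime_two).2 hq2))
            z hzA)
    intro g hg
    have := Subgroup.index_eq_one.1 hidx
    exact (show (⟨g, hg⟩ : N) ∈ C from this ▸ Subgroup.mem_top _)
  -- so `z` is isolated
  have hiso : ∀ g : G, g * z * g⁻¹ ∈ T → g * z * g⁻¹ = z := by
    intro g hg
    obtain ⟨T₁, hAT₁, hT₁⟩ := hctl
    obtain ⟨k, hk'⟩ := MulAction.exists_smul_eq G T T₁
    -- transport to the Sylow subgroup of the fusion statement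
    have hgA : g * z * g⁻¹ ∈ A := hsc.2 z hzA g hg
    obtain ⟨x, hx, hxz⟩ := (hT₁ {z} (Set.singleton_subset_iff.2 (hAT₁ hzA))).2 g (by
      rw [Set.image_singleton, Set.singleton_subset_iff]; exact hAT₁ hgA)
    rw [hxz z (Set.mem_singleton z)]
    have := Subgroup.mem_centralizer_singleton_iff.1 (hfix hx)
    rw [this, mul_inv_cancel_right]
  obtain ⟨N, hN, hodd, hcomm⟩ := ZStar.UniqueCase.zstar T z hz2 hzTC.1 hiso
  rw [h.normal_odd_eq_bot hN hodd] at hcomm
  have hzc : z ∈ Subgroup.center G := Subgroup.mem_center_iff.2 fun g => by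
    have h1 := Subgroup.mem_bot.1 (hcomm g)
    calc g * z = (z * g * z⁻¹ * g⁻¹) * (g * z) := by rw [h1, one_mul]
      _ = z * g := by group
  rw [h.center_eq_bot, Subgroup.mem_bot] at hzc
  exact hz1 hzc

section closed

variable {T : Sylow 2 G} {A : Subgroup G}

theorem Closed.le (h : Closed p G T A) : A ≤ (T : Subgroup G) := h.closed.1

theorem Closed.comm (h : Closed p G T A) {a b : G} (ha : a ∈ A) (hb : b ∈ A) : a * b = b * a :=
  PGroups.elemAb_comm h.elem ha hb

theorem Closed.oddSolv (h : Closed p G T A) : FTDeps.Basic.OddOrderSolvable.{u} :=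
  fun _ _ _ hodd => OddOrder.FeitThompson.isSolvable_of_odd_card hodd

theorem Closed.layer (h : Closed p G T A) (b : G) (hb : orderOf b = 2) :
    pLayer 2 ↥(Subgroup.centralizer ({b} : Set G)) = ⊥ :=
  haveI := h.base.solv _ (h.base.centralizer_ne_top (invol_ne_one hb))
  Balance.pLayer_eq_bot_of_isSolvable

/-- The completion. -/
noncomputable def Wcl (A : Subgroup G) : Subgroup G :=
  Balance.valueSup (fun x : G => centralizerPPrimeCore 2 x) A

theorem cj_Wcl (g : G) (E : Subgroup G) : cj g (Wcl E) = Wcl (cj g E) := by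
  rw [Wcl, Wcl, Balance.valueSup, cj, Subgroup.map_iSup]
  refine le_antisymm (iSup_le fun a => ?_) (iSup_le fun a => ?_)
  · rw [← Balance.centralizerPPrimeCore_conj]
    exact le_iSup (fun b : {b : G // b ∈ cj g E ∧ b ≠ 1} => centralizerPPrimeCore 2 (b : G))
      ⟨g * a.1 * g⁻¹, ⟨a.1, a.2.1, rfl⟩, fun e => a.2.2 (conj_eq_one_iff.1 e)⟩
  · obtain ⟨b, hb, hba⟩ := a.2.1
    refine le_iSup_of_le ⟨b, hb, fun e => a.2.2 (by rw [← hba, e, map_one])⟩ ?_
    rw [← Balance.centralizerPPrimeCore_conj]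
    show centralizerPPrimeCore 2 a.1 ≤ centralizerPPrimeCore 2 (g * b * g⁻¹)
    rw [show g * b * g⁻¹ = a.1 from hba]

theorem Closed.Wcl_eq (h : Closed p G T A) {E : Subgroup G} (hE : E ≤ A) (h4 : 4 ≤ Nat.card E) :
    Wcl E = Wcl A :=
  (FTDeps.Row3110.valueSup_eq_of_le h.oddSolv h.layer h.elem h.eight hE h4).1

theorem Closed.odd_Wcl (h : Closed p G T A) : Odd (Nat.card (Wcl A)) :=
  (FTDeps.Row3110.valueSup_eq_of_le h.oddSolv h.layer h.elem h.eight le_rfl
    (le_trans (by norm_num) h.eight)).2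

/-- Two four subgroups of `A` related by `g` put `g` in the normaliser of the completion. -/
theorem Closed.mem_normalizer (h : Closed p G T A) {E : Subgroup G} (hE : E ≤ A)
    (h4 : 4 ≤ Nat.card E) {g : G} (hg : cj g E ≤ A) :
    g ∈ Subgroup.normalizer (Wcl A : Set G) := by
  rw [Subgroup.mem_normalizer_iff_map_conj_eq]
  show cj g (Wcl A) = Wcl A
  rw [← h.Wcl_eq hE h4, cj_Wcl, h.Wcl_eq hg
    (le_of_le_of_eq h4 (Subgroup.card_map_of_injective (MulAut.conj g).injective).symm),
    h.Wcl_eq hE h4]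

theorem Closed.sylow_le (h : Closed p G T A) :
    (T : Subgroup G) ≤ Subgroup.normalizer (Wcl A : Set G) := by
  intro s hs
  refine h.mem_normalizer le_rfl (le_trans (by norm_num) h.eight) ?_
  rintro _ ⟨a, ha, rfl⟩
  exact h.closed.2 a ha s (mul_mem (mul_mem hs (h.le ha)) (inv_mem hs))

/-- Every involution of `T` centralises a four subgroup of `A`. -/
theorem Closed.four (h : Closed p G T A) {e : G} (he : orderOf e = 2) (heT : e ∈ (T : Subgroup G)) :
    4 ≤ Nat.card (A ⊓ Subgroup.centralizer ({e} : Set G) : Subgroup G) := by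
  set F := A ⊓ Subgroup.centralizer ({e} : Set G)
  have hee := invol_mul_self he
  have hei := invol_inv he
  have hconj : ∀ a ∈ A, e * a * e⁻¹ ∈ A := fun a ha =>
    h.closed.2 a ha e (mul_mem (mul_mem heT (h.le ha)) (inv_mem heT))
  have hsq : ∀ a ∈ A, a * a = 1 := fun a ha => by rw [← pow_two]; exact h.elem.2 a ha
  let φ : A →* A :=
    { toFun := fun a => ⟨(a : G) * (e * (a : G) * e⁻¹), mul_mem a.2 (hconj a a.2)⟩
      map_one' := Subtype.ext (by simp)
      map_mul' := fun a b => Subtype.ext (by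
        show (a : G) * b * (e * ((a : G) * b) * e⁻¹) =
          (a : G) * (e * a * e⁻¹) * ((b : G) * (e * b * e⁻¹))
        have h1 : (b : G) * (e * a * e⁻¹) = e * a * e⁻¹ * b := h.comm b.2 (hconj a a.2)
        calc (a : G) * b * (e * ((a : G) * b) * e⁻¹)
            = a * ((b : G) * (e * a * e⁻¹)) * (e * b * e⁻¹) := by group
          _ = _ := by rw [h1]; group) }
  have hker : ∀ a ∈ φ.ker, (a : G) ∈ F := by
    intro a ha
    refine ⟨a.2, Subgroup.mem_centralizer_singleton_iff.2 ?_⟩
    have h1 : (a : G) * (e * a * e⁻¹) = 1 := congrArg Subtype.val (MonoidHom.mem_ker.1 ha)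
    have h2 : e * a * e⁻¹ = a :=
      (mul_left_cancel ((h1.trans (hsq a a.2).symm)))
    calc (a : G) * e = e * a * e⁻¹ * e := by rw [h2]
      _ = e * a := by group
  have hran : ∀ a ∈ φ.range, (a : G) ∈ F := by
    rintro _ ⟨a, rfl⟩
    refine ⟨mul_mem a.2 (hconj a a.2), Subgroup.mem_centralizer_singleton_iff.2 ?_⟩
    show (a : G) * (e * a * e⁻¹) * e = e * ((a : G) * (e * a * e⁻¹))
    have h1 : (a : G) * (e * a * e⁻¹) = e * a * e⁻¹ * a := h.comm a.2 (hconj a a.2)
    conv_lhs => rw [h1]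
    rw [hei]
    calc e * (a : G) * e * a * e = e * ((a : G) * (e * a * e)) := by group
      _ = _ := rfl
  have h1 : Nat.card φ.ker ≤ Nat.card F :=
    Nat.card_le_card_of_injective (fun a => (⟨(a.1 : G), hker a.1 a.2⟩ : F))
      fun a b e' => Subtype.ext (Subtype.ext (congrArg (fun w : F => (w : G)) e'))
  have h2 : Nat.card φ.range ≤ Nat.card F :=
    Nat.card_le_card_of_injective (fun a => (⟨(a.1 : G), hran a.1 a.2⟩ : F))
      fun a b e' => Subtype.ext (Subtype.ext (congrArg (fun w : F => (w : G)) e'))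
  have h3 : Nat.card φ.range * Nat.card φ.ker = Nat.card A := by
    rw [← Subgroup.index_ker, mul_comm, φ.ker.card_mul_index]
  obtain ⟨k, hk⟩ := IsPGroup.iff_card.1 (PGroups.elemAb_isPGroup
    (PGroups.elemAb_mono h.elem (inf_le_left : F ≤ A)))
  have h8 := h.eight
  have h9 : 8 ≤ Nat.card F * Nat.card F :=
    le_trans (h3 ▸ h8) (Nat.mul_le_mul h2 h1)
  rw [hk] at h9 ⊢
  rcases k with _ | _ | k
  · norm_num at h9
  · norm_num at h9
  · calc 4 = 2 ^ 2 := rfl
      _ ≤ 2 ^ (k + 1 + 1) := Nat.pow_le_pow_right (by norm_num) (by omega)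

/-- The odd core of an involution centraliser lies in the completion. -/
theorem Closed.core_le (h : Closed p G T A) {e : G} (he : orderOf e = 2)
    (heT : e ∈ (T : Subgroup G)) : centralizerPPrimeCore 2 e ≤ Wcl A := by
  haveI : Fact (Nat.Prime 2) := ⟨Nat.prime_two⟩
  set F := A ⊓ Subgroup.centralizer ({e} : Set G) with hF
  have hFe := PGroups.elemAb_mono h.elem (inf_le_left : F ≤ A)
  haveI := hFe.1
  have hncyc : ¬ IsCyclic F := by
    intro hcyc
    have := Nat.le_of_dvd two_pos (PGroups.elemAb_card_dvd_of_isCyclic hFe)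
    have := h.four he heT
    omega
  obtain ⟨k, hk⟩ := IsPGroup.iff_card.1 (PGroups.elemAb_isPGroup hFe)
  rw [← Coprime.iSup_centralizer_eq hncyc
    (inf_le_right.trans (Balance.centralizer_le_normalizer_centralizerPPrimeCore e))
    (by rw [hk]; exact (Nat.prime_two.coprime_iff_not_dvd.2
      (Balance.not_dvd_card_centralizerPPrimeCore e)).pow_left k)]
  refine iSup₂_le fun f hf => ?_
  obtain ⟨⟨hfA, hfe⟩, hf1⟩ := hf
  refine (Balance.balance_of_pLayer_eq_bot he
    (Subgroup.mem_centralizer_singleton_iff.1 hfe).symm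
    (h.layer f (PGroups.elemAb_orderOf h.elem hfA hf1))).trans ?_
  exact le_iSup (fun a : {a : G // a ∈ A ∧ a ≠ 1} => centralizerPPrimeCore 2 (a : G)) ⟨f, hfA, hf1⟩

/-- The centraliser of a fully centralised involution of `T`. -/
theorem Closed.centralizer_le_aux (h : Closed p G T A) {e : G} (he : orderOf e = 2)
    (heT : e ∈ (T : Subgroup G))
    (hfull : ¬ 2 ∣ ((T : Subgroup G).subgroupOf (Subgroup.centralizer ({e} : Set G))).index) :
    Subgroup.centralizer ({e} : Set G) ≤ Subgroup.normalizer (Wcl A : Set G) := by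
  classical
  haveI : Fact (Nat.Prime 2) := ⟨Nat.prime_two⟩
  set X := Subgroup.centralizer ({e} : Set G) with hX
  set M := Subgroup.normalizer (Wcl A : Set G) with hM
  haveI := h.base.solv X (h.base.centralizer_ne_top (invol_ne_one he))
  set π := QuotientGroup.mk' (Cfsg.pPrimeCore 2 X) with hπ
  set P₀ := (Cfsg.pCore 2 (X ⧸ Cfsg.pPrimeCore 2 X)).comap π with hP₀
  haveI : P₀.Normal := by rw [hP₀]; infer_instance
  set S : Sylow 2 X := (T.2.comap_subtype (K := X)).toSylow hfull
  have hS : (S : Subgroup X) = (T : Subgroup G).subgroupOf X := rfl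
  obtain ⟨T₀⟩ := (inferInstance : Nonempty (Sylow 2 P₀))
  obtain ⟨S₁, hS₁⟩ := (T₀.2.map P₀.subtype).exists_le_sylow
  obtain ⟨x, hx⟩ := MulAction.exists_smul_eq X S₁ S
  obtain ⟨T₁, hT₁, hT₁P, hT₁idx, hT₁S⟩ : ∃ T₁ : Subgroup X, IsPGroup 2 T₁ ∧ T₁ ≤ P₀ ∧
      ¬ 2 ∣ T₁.relIndex P₀ ∧ T₁ ≤ (S : Subgroup X) := by
    refine ⟨((T₀ : Subgroup P₀).map P₀.subtype).map (MulAut.conj x).toMonoidHom,
      (T₀.2.map _).map _, ?_, ?_, ?_⟩
    · rw [Subgroup.map_le_iff_le_comap]
      exact (Subgroup.map_subtype_le _).trans fun y hy =>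
        (inferInstance : P₀.Normal).conj_mem y hy x
    · have e : P₀.map (MulAut.conj x).toMonoidHom = P₀ :=
        Subgroup.mem_normalizer_iff_map_conj_eq.1
          (Subgroup.normalizer_eq_top_iff.2 (inferInstance : P₀.Normal) ▸ Subgroup.mem_top x)
      have e' : (((T₀ : Subgroup P₀).map P₀.subtype).map (MulAut.conj x).toMonoidHom).relIndex
          (P₀.map (MulAut.conj x).toMonoidHom) = (T₀ : Subgroup P₀).index := by
        rw [Subgroup.relIndex_map_map_of_injective _ _ (MulAut.conj x).injective, Subgroup.relIndex,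
          Subgroup.subgroupOf, Subgroup.comap_map_eq_self_of_injective P₀.subtype_injective]
      rw [e] at e'
      rw [e']
      exact T₀.not_dvd_index
    · rw [← hx, Sylow.coe_subgroup_smul, Subgroup.pointwise_smul_def]
      exact Subgroup.map_mono hS₁
  obtain ⟨TS, hTS'⟩ : ∃ TS : Sylow 2 P₀, (TS : Subgroup P₀) = T₁.subgroupOf P₀ :=
    ⟨(hT₁.comap_subtype (K := P₀)).toSylow hT₁idx, rfl⟩
  have hinter : (S : Subgroup X) ⊓ P₀ = T₁ := by
    have h1 : ((S : Subgroup X) ⊓ P₀).subgroupOf P₀ = TS :=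
      TS.3 ((S.2.to_le inf_le_left).comap_subtype) (by
        rw [hTS']; exact Subgroup.comap_mono (le_inf hT₁S hT₁P))
    rw [hTS'] at h1
    calc (S : Subgroup X) ⊓ P₀ = (((S : Subgroup X) ⊓ P₀).subgroupOf P₀).map P₀.subtype :=
          (Subgroup.map_subgroupOf_eq_of_le inf_le_right).symm
      _ = T₁ := by rw [h1, Subgroup.map_subgroupOf_eq_of_le hT₁P]
  -- `P₀ = O T₁`
  have hP₀le : P₀ ≤ Cfsg.pPrimeCore 2 X ⊔ T₁ := by
    rw [← Subgroup.relIndex_eq_one, ← Nat.dvd_one]
    have h1 : (Cfsg.pPrimeCore 2 X ⊔ T₁).relIndex P₀ ∣ (Cfsg.pPrimeCore 2 X).relIndex P₀ :=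
      Subgroup.relIndex_dvd_of_le_left _ le_sup_left
    have h2 : (Cfsg.pPrimeCore 2 X ⊔ T₁).relIndex P₀ ∣ T₁.relIndex P₀ :=
      Subgroup.relIndex_dvd_of_le_left _ le_sup_right
    have h3 : (Cfsg.pPrimeCore 2 X).relIndex P₀ =
        Nat.card (Cfsg.pCore 2 (X ⧸ Cfsg.pPrimeCore 2 X)) := by
      have := Subgroup.relIndex_ker (K := P₀) π
      rwa [hπ, QuotientGroup.ker_mk', hP₀,
        Subgroup.map_comap_eq_self_of_surjective (QuotientGroup.mk'_surjective _)] at this
    obtain ⟨k, hk⟩ := IsPGroup.iff_card.1 (Cores.pCore_isPGroup (G := X ⧸ Cfsg.pPrimeCore 2 X) 2)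
    rw [h3, hk] at h1
    have := Nat.dvd_gcd h1 h2
    rwa [Nat.Coprime.gcd_eq_one ((Nat.prime_two.coprime_iff_not_dvd.2 hT₁idx).pow_left k)] at this
  have hker : ∀ o ∈ Cfsg.pPrimeCore 2 X, π o = 1 := fun o ho => (QuotientGroup.eq_one_iff o).2 ho
  have hmapP : P₀.map π = T₁.map π := by
    refine le_antisymm ((Subgroup.map_mono hP₀le).trans ?_) (Subgroup.map_mono hT₁P)
    rw [Subgroup.map_sup]
    refine sup_le ?_ le_rfl
    rintro _ ⟨o, ho, rfl⟩
    rw [hker o ho]; exact one_mem _
  have hcore : Cfsg.pCore 2 (X ⧸ Cfsg.pPrimeCore 2 X) = T₁.map π := by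
    rw [← hmapP, hP₀, Subgroup.map_comap_eq_self_of_surjective (QuotientGroup.mk'_surjective _)]
  -- the part of `A` in `T₁`
  set A₀ := A.subgroupOf X ⊓ T₁ with hA₀
  set N := Subgroup.normalizer (T₁ : Set X) with hN
  have hT₁T : ∀ y ∈ T₁, (y : G) ∈ (T : Subgroup G) := fun y hy =>
    Subgroup.mem_subgroupOf.1 (hS ▸ hT₁S hy)
  have hNA₀ : ∀ n ∈ N, ∀ a ∈ A₀, n * a * n⁻¹ ∈ A₀ := by
    intro n hn a ha
    have h1 : n * a * n⁻¹ ∈ T₁ := (Subgroup.mem_normalizer_iff.1 hn a).1 ha.2
    exact ⟨h.closed.2 (a : G) ha.1 (n : G) (hT₁T _ h1), h1⟩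
  have hFS : ∀ f : X, (f : G) ∈ A → f ∈ (S : Subgroup X) := fun f hf => by
    rw [hS]; exact Subgroup.mem_subgroupOf.2 (h.le hf)
  have h4 : 4 ≤ Nat.card A₀ := by
    by_contra hlt
    push Not at hlt
    obtain ⟨j, hj⟩ := IsPGroup.iff_card.1 (hT₁.to_le (inf_le_right : A₀ ≤ T₁))
    have hle2 : Nat.card A₀ ≤ 2 := by
      rw [hj] at hlt ⊢
      rcases j with _ | _ | j
      · norm_num
      · norm_num
      · exact absurd (by
          calc 4 = 2 ^ 2 := rfl
            _ ≤ 2 ^ (j + 1 + 1) := Nat.pow_le_pow_right (by norm_num) (by omega)) hlt.not_ge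
    have hcen : ∀ n ∈ N, ∀ a ∈ A₀, n * a * n⁻¹ = a := by
      intro n hn a ha
      rcases eq_or_ne a 1 with rfl | ha1
      · simp
      by_contra hne
      have hc : 3 ≤ Nat.card A₀ := by
        let g : Fin 3 → A₀ := ![1, ⟨a, ha⟩, ⟨n * a * n⁻¹, hNA₀ n hn a ha⟩]
        have hg : Function.Injective g := by
          intro i j hij
          have hij' := congrArg Subtype.val hij
          fin_cases i <;> fin_cases j <;>
            simp [g, eq_comm (a := (1 : X))] at hij' ⊢ <;>
            first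
              | exact ha1 hij'
              | exact hne hij'
              | exact hne hij'.symm
        simpa using Nat.card_le_card_of_injective g hg
      omega
    -- the subgroup stabilising the series
    let K : Subgroup X :=
      { carrier := {x | x ∈ N ∧ ∀ y ∈ T₁, x * y * x⁻¹ * y⁻¹ ∈ A₀}
        one_mem' := ⟨one_mem _, fun y _ => by simp⟩
        mul_mem' := by
          rintro v w ⟨hv, hv'⟩ ⟨hw, hw'⟩
          refine ⟨mul_mem hv hw, fun y hy => ?_⟩
          have h1 := hw' y hy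
          have h2 := hv' y hy
          have h3 : v * (w * y * w⁻¹ * y⁻¹) * v⁻¹ ∈ A₀ := hNA₀ v hv _ h1
          have := mul_mem h3 h2
          convert this using 1
          group
        inv_mem' := by
          rintro v ⟨hv, hv'⟩
          refine ⟨inv_mem hv, fun y hy => ?_⟩
          have h1 := hNA₀ v⁻¹ (inv_mem hv) _ (inv_mem (hv' y hy))
          convert h1 using 1
          group }
    have hKN : ∀ n ∈ N, ∀ x ∈ K, n * x * n⁻¹ ∈ K := by
      rintro n hn x ⟨hx, hx'⟩
      refine ⟨mul_mem (mul_mem hn hx) (inv_mem hn), fun y hy => ?_⟩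
      have hy' : n⁻¹ * y * n ∈ T₁ := by
        have := (Subgroup.mem_normalizer_iff.1 (inv_mem hn) y).1 hy
        rwa [inv_inv] at this
      have h1 := hNA₀ n hn _ (hx' _ hy')
      convert h1 using 1
      group
    have hK2 : IsPGroup 2 (K.map π) := by
      rintro ⟨_, x, ⟨hxN, hx⟩, rfl⟩
      have hx2 : ∀ y ∈ T₁, x ^ 2 * y = y * x ^ 2 := by
        intro y hy
        have ha := hx y hy
        set a := x * y * x⁻¹ * y⁻¹ with hadef
        have h1 : x * y * x⁻¹ = a * y := by rw [hadef]; group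
        have haa : a * a = 1 := Subtype.ext (by
          show (a : G) * (a : G) = 1
          rw [← pow_two]; exact h.elem.2 _ ha.1)
        have h2 : x ^ 2 * y * (x ^ 2)⁻¹ = y := by
          calc x ^ 2 * y * (x ^ 2)⁻¹ = (x * (x * y * x⁻¹) * x⁻¹) := by rw [pow_two]; group
            _ = x * (a * y) * x⁻¹ := by rw [h1]
            _ = x * a * x⁻¹ * (x * y * x⁻¹) := by group
            _ = a * a * y := by rw [hcen x hxN a ha, h1]; group
            _ = y := by rw [haa, one_mul]
        calc x ^ 2 * y = x ^ 2 * y * (x ^ 2)⁻¹ * x ^ 2 := by group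
          _ = y * x ^ 2 := by rw [h2]
      have hmem : π (x ^ 2) ∈ Cfsg.pCore 2 (X ⧸ Cfsg.pPrimeCore 2 X) := by
        refine SylowInter.Basic.centralizer_pCore_le 2 (Cores.pPrimeCore_quotient_pPrimeCore 2)
          (Subgroup.mem_centralizer_iff.2 fun w hw => ?_)
        rw [hcore] at hw
        obtain ⟨y, hy, rfl⟩ := hw
        rw [← map_mul, ← map_mul, hx2 y hy]
      obtain ⟨i, hi⟩ := Cores.pCore_isPGroup 2 ⟨_, hmem⟩
      refine ⟨i + 1, Subtype.ext ?_⟩
      have := congrArg Subtype.val hi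
      simpa [pow_succ', pow_mul, map_pow] using this
    haveI : (K.map π).Normal := by
      rw [← Subgroup.normalizer_eq_top_iff, eq_top_iff]
      have hfr := Sylow.normalizer_sup_eq_top TS
      rw [hTS', Subgroup.map_subgroupOf_eq_of_le hT₁P] at hfr
      have htop : N.map π = ⊤ := by
        rw [← Subgroup.map_top_of_surjective π (QuotientGroup.mk'_surjective _)]
        refine le_antisymm (Subgroup.map_mono le_top) ?_
        rw [← hfr, Subgroup.map_sup]
        refine sup_le le_rfl ?_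
        rw [hmapP]
        exact Subgroup.map_mono Subgroup.le_normalizer
      rw [← htop]
      rintro _ ⟨n, hn, rfl⟩
      rw [Subgroup.mem_normalizer_iff_map_conj_eq]
      refine Subgroup.eq_of_le_of_card_ge ?_
        (Subgroup.card_map_of_injective (MulAut.conj (π n)).injective).ge
      rintro _ ⟨_, ⟨x, hx, rfl⟩, rfl⟩
      exact ⟨n * x * n⁻¹, hKN n hn x hx, by simp⟩
    have hKle : K ≤ P₀ := fun x hx => Cores.le_pCore hK2 ⟨x, hx, rfl⟩
    -- the centralised part of `A` lies in `T₁`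
    set F := (A ⊓ Subgroup.centralizer ({e} : Set G)).subgroupOf X with hF
    have hFK : F ≤ K := by
      intro f hf
      have hfA : (f : G) ∈ A := hf.1
      have hfS := hFS f hfA
      have hSN : f ∈ N := by
        rw [hN, ← hinter, Subgroup.mem_normalizer_iff]
        intro y
        rw [Subgroup.mem_inf, Subgroup.mem_inf]
        constructor
        · rintro ⟨h1, h2⟩
          exact ⟨mul_mem (mul_mem hfS h1) (inv_mem hfS), (inferInstance : P₀.Normal).conj_mem y h2 f⟩
        · rintro ⟨h1, h2⟩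
          have := (inferInstance : P₀.Normal).conj_mem _ h2 f⁻¹
          exact ⟨by simpa [mul_assoc] using mul_mem (mul_mem (inv_mem hfS) h1) hfS,
            by simpa [mul_assoc] using this⟩
      refine ⟨hSN, fun y hy => ?_⟩
      refine Subgroup.mem_inf.2 ⟨Subgroup.mem_subgroupOf.2 ?_,
        mul_mem ((Subgroup.mem_normalizer_iff.1 hSN y).1 hy) (inv_mem hy)⟩
      push_cast
      have h1 : (y : G) * (f : G)⁻¹ * (y : G)⁻¹ ∈ A :=
        h.closed.2 _ (inv_mem hfA) _
          (mul_mem (mul_mem (hT₁T y hy) (inv_mem (h.le hfA))) (inv_mem (hT₁T y hy)))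
      have := mul_mem hfA h1
      simpa [mul_assoc] using this
    have hFle : F ≤ A₀ := fun f hf => ⟨hf.1, hinter ▸ ⟨hFS f hf.1, hKle (hFK hf)⟩⟩
    have h4 : 4 ≤ Nat.card F := by
      rw [hF, Nat.card_congr (Subgroup.subgroupOfEquivOfLe inf_le_right).toEquiv]
      exact h.four he heT
    have hc : Nat.card F ≤ Nat.card A₀ := Subgroup.card_le_of_le hFle
    omega
  -- the normaliser part
  have hNM : N.map X.subtype ≤ M := by
    rintro _ ⟨n, hn, rfl⟩
    refine h.mem_normalizer (E := A₀.map X.subtype) ?_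
      (by rw [Subgroup.card_subtype]; exact h4) ?_
    · rintro _ ⟨a, ha, rfl⟩; exact ha.1
    · rintro _ ⟨_, ⟨a, ha, rfl⟩, rfl⟩
      exact (hNA₀ n hn a ha).1
  have hfr := Sylow.normalizer_sup_eq_top TS
  rw [hTS', Subgroup.map_subgroupOf_eq_of_le hT₁P] at hfr
  have htop : (⊤ : Subgroup X) ≤ N ⊔ (Cfsg.pPrimeCore 2 X ⊔ T₁) := by
    rw [← hfr]; exact sup_le_sup_left hP₀le _
  have hXle := Subgroup.map_mono (f := X.subtype) htop
  rw [Subgroup.map_sup, Subgroup.map_sup, ← MonoidHom.range_eq_map, Subgroup.range_subtype] at hXle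
  refine hXle.trans (sup_le hNM (sup_le ?_ ?_))
  · exact (h.core_le he heT).trans Subgroup.le_normalizer
  · rintro _ ⟨y, hy, rfl⟩
    exact h.sylow_le (hT₁T y hy)

/-- Centralisers of involutions of `T` normalise the completion. -/
theorem Closed.centralizer_le (h : Closed p G T A) {e : G} (he : orderOf e = 2)
    (heT : e ∈ (T : Subgroup G)) :
    Subgroup.centralizer ({e} : Set G) ≤ Subgroup.normalizer (Wcl A : Set G) := by
  haveI : Fact (Nat.Prime 2) := ⟨Nat.prime_two⟩
  set X := Subgroup.centralizer ({e} : Set G) with hX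
  obtain ⟨R, hR⟩ := (T.2.comap_subtype (K := X)).exists_le_sylow
  obtain ⟨Q, hQ⟩ := (R.2.map X.subtype).exists_le_sylow
  obtain ⟨g, hg⟩ := MulAction.exists_smul_eq G T Q
  have hmem : ∀ y : G, y ∈ (Q : Subgroup G) ↔ g⁻¹ * y * g ∈ (T : Subgroup G) := by
    intro y
    rw [← hg, Sylow.coe_subgroup_smul, Subgroup.mem_pointwise_smul_iff_inv_smul_mem]
    simp
  set F := A ⊓ X with hF
  have hgM : g⁻¹ ∈ Subgroup.normalizer (Wcl A : Set G) := by
    refine h.mem_normalizer (E := F) inf_le_left (h.four he heT) ?_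
    rintro _ ⟨f, hf, rfl⟩
    refine h.closed.2 f hf.1 g⁻¹ ?_
    have h1 : f ∈ (Q : Subgroup G) :=
      hQ ⟨⟨f, hf.2⟩, hR (Subgroup.mem_subgroupOf.2 (h.le hf.1)), rfl⟩
    simpa using (hmem f).1 h1
  set e' := g⁻¹ * e * g with he'
  have he2 : orderOf e' = 2 := by
    have := orderOf_conj_eq g⁻¹ e
    rw [inv_inv] at this
    exact this.trans he
  have heX : e ∈ X := Subgroup.mem_centralizer_singleton_iff.2 rfl
  have heQ : e ∈ (Q : Subgroup G) :=
    hQ ⟨⟨e, heX⟩, hR (Subgroup.mem_subgroupOf.2 heT), rfl⟩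
  have hX' : Subgroup.centralizer ({e'} : Set G) = cj g⁻¹ X := by
    rw [hX, cj, Balance.map_centralizer_singleton]
    simp [he']
  have hfull : ¬ 2 ∣ ((T : Subgroup G).subgroupOf (Subgroup.centralizer ({e'} : Set G))).index := by
    rw [hX']
    show ¬ 2 ∣ (T : Subgroup G).relIndex (cj g⁻¹ X)
    have e1 : (T : Subgroup G) = cj g⁻¹ (Q : Subgroup G) := by
      ext y
      constructor
      · intro hy
        exact ⟨g * y * g⁻¹, (hmem _).2 (by simpa [mul_assoc] using hy), by simp [mul_assoc]⟩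
      · rintro ⟨y, hy, rfl⟩
        simpa using (hmem y).1 hy
    rw [e1, cj, cj, Subgroup.relIndex_map_map_of_injective _ _ (MulAut.conj g⁻¹).injective]
    intro hd
    exact R.not_dvd_index (hd.trans (Subgroup.index_dvd_of_le fun y hy =>
      Subgroup.mem_subgroupOf.2 (hQ ⟨y, hy, rfl⟩)))
  have h1 := h.centralizer_le_aux he2 ((hmem e).1 heQ) hfull
  intro x hx
  have hx' : g⁻¹ * x * g ∈ Subgroup.centralizer ({e'} : Set G) := by
    rw [hX']; exact ⟨x, hx, by simp⟩
  have := mul_mem (mul_mem (inv_mem hgM) (h1 hx')) hgM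
  simpa [mul_assoc] using this

/-- With nontrivial completion its normaliser is strongly embedded. -/
theorem Closed.stronglyEmbedded (h : Closed p G T A) (hW : Wcl A ≠ ⊥) :
    Cfsg.IsStronglyEmbedded (Subgroup.normalizer (Wcl A : Set G)) := by
  haveI : Fact (Nat.Prime 2) := ⟨Nat.prime_two⟩
  set M := Subgroup.normalizer (Wcl A : Set G) with hM
  have hWtop : Wcl A ≠ ⊤ := fun e => by
    have := h.odd_Wcl
    rw [e, Subgroup.card_top] at this
    exact Nat.not_odd_iff_even.2 h.base.even this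
  have hne : M ≠ ⊤ := h.base.normalizer_ne_top hW hWtop
  have hev : Even (Nat.card M) := by
    have hd : 2 ∣ Nat.card (T : Subgroup G) :=
      T.dvd_card_of_dvd_card (even_iff_two_dvd.1 h.base.even)
    exact even_iff_two_dvd.2 (hd.trans (Subgroup.card_dvd_of_le h.sylow_le))
  refine StronglyEmbedded.of_forall_conj hne hev fun t htM ht g hg => ?_
  set S : Sylow 2 M := T.subtype h.sylow_le
  have hSmem : ∀ y : M, y ∈ (S : Subgroup M) ↔ (y : G) ∈ (T : Subgroup G) := fun y => by
    rw [Sylow.coe_subtype, Subgroup.mem_subgroupOf]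
  -- conjugate `2`-subgroups of `M` into `T`
  have hinto : ∀ Y : Subgroup G, Y ≤ M → IsPGroup 2 Y →
      ∃ m ∈ M, ∀ y ∈ Y, m * y * m⁻¹ ∈ (T : Subgroup G) := by
    intro Y hYM hY
    obtain ⟨Q, hQ⟩ := (hY.comap_subtype (K := M)).exists_le_sylow
    obtain ⟨m, hm⟩ := MulAction.exists_smul_eq M Q S
    refine ⟨m, m.2, fun y hy => ?_⟩
    have h1 : m * ⟨y, hYM hy⟩ * m⁻¹ ∈ (S : Subgroup M) := by
      rw [← hm, Sylow.coe_subgroup_smul]
      simpa using Subgroup.smul_mem_pointwise_smul (a := MulAut.conj m) _ (Q : Subgroup M)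
        (hQ (Subgroup.mem_subgroupOf.2 hy : (⟨y, hYM hy⟩ : M) ∈ Y.subgroupOf M))
    simpa using (hSmem _).1 h1
  have hz : ∀ y : G, orderOf y = 2 → IsPGroup 2 (Subgroup.zpowers y) := fun y hy =>
    IsPGroup.of_card (n := 1) (by rw [Nat.card_zpowers, hy, pow_one])
  obtain ⟨m₁, hm₁, ht₁⟩ := hinto _ (Subgroup.zpowers_le.2 htM) (hz t ht)
  obtain ⟨m₂, hm₂, ht₂⟩ := hinto _ (Subgroup.zpowers_le.2 hg) (hz _ ((orderOf_conj_eq g t).trans ht))
  set u := m₁ * t * m₁⁻¹ with hu
  set k := m₂ * g * m₁⁻¹ with hk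
  have hu2 : orderOf u = 2 := (orderOf_conj_eq _ _).trans ht
  have huT : u ∈ (T : Subgroup G) := ht₁ t (Subgroup.mem_zpowers t)
  have hku : k * u * k⁻¹ = m₂ * (g * t * g⁻¹) * m₂⁻¹ := by rw [hu, hk]; group
  have hkT : k * u * k⁻¹ ∈ (T : Subgroup G) := hku ▸ ht₂ _ (Subgroup.mem_zpowers _)
  set F := A ⊓ Subgroup.centralizer ({u} : Set G)
  have hFle : cj k F ≤ M := by
    refine le_trans ?_ (h.centralizer_le ((orderOf_conj_eq k u).trans hu2) hkT)
    rintro _ ⟨f, hf, rfl⟩
    rw [Subgroup.mem_centralizer_singleton_iff]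
    have := Subgroup.mem_centralizer_singleton_iff.1 hf.2
    show k * f * k⁻¹ * (k * u * k⁻¹) = k * u * k⁻¹ * (k * f * k⁻¹)
    calc k * f * k⁻¹ * (k * u * k⁻¹) = k * (f * u) * k⁻¹ := by group
      _ = k * u * k⁻¹ * (k * f * k⁻¹) := by rw [this]; group
  obtain ⟨m, hm, hmF⟩ := hinto _ hFle
    ((PGroups.elemAb_isPGroup (PGroups.elemAb_mono h.elem inf_le_left)).map _)
  have hmk : m * k ∈ M := by
    refine h.mem_normalizer (E := F) inf_le_left (h.four hu2 huT) ?_
    rintro _ ⟨f, hf, rfl⟩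
    refine h.closed.2 f hf.1 (m * k) ?_
    have := hmF (k * f * k⁻¹) ⟨f, hf, rfl⟩
    simpa [mul_assoc] using this
  have hgk : g = m₂⁻¹ * (m⁻¹ * (m * k)) * m₁ := by rw [hk]; group
  rw [hgk]
  exact mul_mem (mul_mem (inv_mem hm₂) (mul_mem (inv_mem hm) hmk)) hm₁

theorem involves_of_subgroup {H : Type*} [Group H] {M : Subgroup G}
    (h : Cfsg.Involves H ↥M) : Cfsg.Involves H G := by
  obtain ⟨K, R, hn, ⟨e⟩⟩ := h
  haveI := hn
  set K' := K.map M.subtype
  set R' := R.map M.subtype
  let φ : ↥K ≃* ↥K' := K.equivMapOfInjective M.subtype M.subtype_injective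
  have hmap : (R.subgroupOf K).map φ.toMonoidHom = R'.subgroupOf K' := by
    ext ⟨x, hx⟩
    constructor
    · rintro ⟨k, hk, hkx⟩
      refine Subgroup.mem_subgroupOf.2 ⟨(k : M), Subgroup.mem_subgroupOf.1 hk, ?_⟩
      exact congrArg Subtype.val hkx
    · intro hx'
      obtain ⟨r, hr, hrx⟩ := Subgroup.mem_subgroupOf.1 hx'
      obtain ⟨k, hk, hkx⟩ := hx
      have : r = k := M.subtype_injective (hrx.trans hkx.symm)
      exact ⟨⟨k, hk⟩, Subgroup.mem_subgroupOf.2 (this ▸ hr), Subtype.ext hkx⟩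
  haveI hn' : (R'.subgroupOf K').Normal := hmap ▸ hn.map φ.toMonoidHom φ.surjective
  exact ⟨K', R', hn', ⟨(QuotientGroup.congr _ _ φ hmap).symm.trans e⟩⟩

/-- With trivial completion a maximal `2`-local is strongly embedded. -/
theorem Closed.exists_stronglyEmbedded_of_trivial (h : Closed p G T A) (hW : Wcl A = ⊥) :
    ∃ M : Subgroup G, Cfsg.IsStronglyEmbedded M := by
  haveI : Fact (Nat.Prime 2) := ⟨Nat.prime_two⟩
  have hchar : ∀ t : G, orderOf t = 2 → Subgroup.centralizer
      (pCore 2 ↥(Subgroup.centralizer ({t} : Set G)) : Set ↥(Subgroup.centralizer ({t} : Set G))) ≤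
        pCore 2 ↥(Subgroup.centralizer ({t} : Set G)) := by
    intro t ht
    haveI := h.base.solv _ (h.base.centralizer_ne_top (invol_ne_one ht))
    refine SylowInter.Basic.centralizer_pCore_le 2 ?_
    obtain ⟨g, hg⟩ := StronglyEmbedded.exists_conj_mem_of_sylow (P := T) le_rfl ht
    have h1 : centralizerPPrimeCore 2 (g * t * g⁻¹) = ⊥ :=
      le_bot_iff.1 (hW ▸ h.core_le ((orderOf_conj_eq g t).trans ht) hg)
    rw [Balance.centralizerPPrimeCore_conj,
      Subgroup.map_eq_bot_iff_of_injective _ (MulAut.conj g).injective,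
      Balance.centralizerPPrimeCore_eq, Balance.coreIn,
      Subgroup.map_eq_bot_iff_of_injective _ (Subgroup.subtype_injective _)] at h1
    exact h1
  have hloc : ∀ M : Subgroup G, Cfsg.IsTwoLocal M → Group.IsSolvable M ∧
      Cfsg.IsOfCharacteristicTwo ↥M ∧ ¬ Cfsg.Involves (Equiv.Perm (Fin 4)) ↥M := by
    rintro M ⟨U, hU, hU1, rfl⟩
    exact ⟨h.base.solv _ (h.base.two_group_normalizer hU hU1),
      Balance.centralizer_pCore_le_local hchar hU hU1,
      fun hi => h.base.not_involves_four (involves_of_subgroup hi)⟩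
  have hne : ({M : Subgroup G | Cfsg.IsTwoLocal M}).Nonempty :=
    ⟨_, (T : Subgroup G), T.2, T.ne_bot_of_dvd_card (even_iff_two_dvd.1 h.base.even), rfl⟩
  obtain ⟨M, hM⟩ := Set.Finite.exists_maximal (Set.toFinite _) hne
  exact ⟨M, SFourFree.Locals.isStronglyEmbedded hloc h.base.even h.base.pCore_two
    ⟨hM.1, fun N hN hle => le_antisymm (hM.2 hN hle) hle⟩⟩

/-- The setting is impossible. -/
theorem Setting.false (h : Setting p G) : False := by
  haveI : Fact (Nat.Prime 2) := ⟨Nat.prime_two⟩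
  obtain ⟨T, A, hA⟩ := h.exists_closed
  obtain ⟨M, hSE⟩ : ∃ M : Subgroup G, Cfsg.IsStronglyEmbedded M := by
    by_cases hW : Wcl A = ⊥
    · exact hA.exists_stronglyEmbedded_of_trivial hW
    · exact ⟨_, hA.stronglyEmbedded hW⟩
  obtain ⟨S, hS⟩ := StronglyEmbedded.exists_sylow_le hSE
  obtain ⟨g, hg⟩ := MulAction.exists_smul_eq G T S
  -- two involutions of `A`
  have h4 : 3 ≤ Nat.card A := le_trans (by norm_num) hA.eight
  obtain ⟨a, b, ha, hb, hab⟩ : ∃ a b : G, (a ∈ A ∧ a ≠ 1) ∧ (b ∈ A ∧ b ≠ 1) ∧ a ≠ b := by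
    classical
    haveI := Fintype.ofFinite A
    obtain ⟨a, b, c, hab, hac, hbc⟩ := Fintype.two_lt_card_iff.1
      (show 2 < Fintype.card A by rw [← Nat.card_eq_fintype_card]; omega)
    by_cases ha : a = 1
    · refine ⟨b, c, ⟨b.2, fun e => hab ?_⟩, ⟨c.2, fun e => hac ?_⟩, fun e => hbc (Subtype.ext e)⟩
      · rw [ha]; exact Subtype.ext e.symm
      · rw [ha]; exact Subtype.ext e.symm
    · by_cases hb : b = 1
      · refine ⟨a, c, ⟨a.2, fun e => ha (Subtype.ext e)⟩, ⟨c.2, fun e => hbc ?_⟩,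
          fun e => hac (Subtype.ext e)⟩
        rw [hb]; exact Subtype.ext e.symm
      · exact ⟨a, b, ⟨a.2, fun e => ha (Subtype.ext e)⟩, ⟨b.2, fun e => hb (Subtype.ext e)⟩,
          fun e => hab (Subtype.ext e)⟩
  have hmem : ∀ x ∈ A, g * x * g⁻¹ ∈ M := by
    intro x hx
    refine hS ?_
    rw [← hg, Sylow.coe_subgroup_smul]
    simpa using Subgroup.smul_mem_pointwise_smul (a := MulAut.conj g) x (T : Subgroup G) (hA.le hx)
  refine Emb.false (M := M) ⟨h, hSE, g * a * g⁻¹, g * b * g⁻¹, hmem a ha.1, hmem b hb.1,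
    (orderOf_conj_eq _ _).trans (PGroups.elemAb_orderOf hA.elem ha.1 ha.2),
    (orderOf_conj_eq _ _).trans (PGroups.elemAb_orderOf hA.elem hb.1 hb.2),
    fun e => hab (by simpa using e), ?_⟩
  calc g * a * g⁻¹ * (g * b * g⁻¹) = g * (a * b) * g⁻¹ := by group
    _ = g * b * g⁻¹ * (g * a * g⁻¹) := by rw [hA.comm ha.1 hb.1]; group

end closed

end Cfsg.Agent.Lib.NilPrime33
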