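import Cfsg.Agent.Lib.NilPrime33.Basic
import Cfsg.Agent.Lib.Involutions.StronglyEmbedded
import Cfsg.Agent.Lib.Fusion.Swappers
import Cfsg.Agent.Lib.Coprime.Generation
import Cfsg.Agent.Lib.SylowInter.Basic
import Cfsg.Agent.Lib.Cores.Basic

/-!
# Groups whose proper `p'`-subgroups are nilpotent: a strongly embedded subgroup is impossible

With `M` strongly embedded containing two commuting involutions, a Sylow `p`-subgroup of `M` is one
of the whole group.  Then every product of involutions in different point stabilisers is a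
`p`-element, so fixes a point, and counting involutions gives a contradiction.

Owner: helper33. Namespace `Cfsg.Agent.Lib.NilPrime33`.
-/

set_option autoImplicit false
set_option linter.unusedSectionVars false
set_option linter.style.haveILetI false

open scoped Pointwise
open Cfsg.Agent.Lib.Involutions Cfsg.Agent.Lib.Involutions.Basic MulAction

namespace Cfsg.Agent.Lib.NilPrime33

universe u

variable {G : Type u} [Group G] [Finite G] {p : ℕ} {M : Subgroup G}

/-- A strongly embedded subgroup with two commuting involutions in the minimal counterexample. -/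
structure Emb (p : ℕ) (G : Type u) [Group G] [Finite G] (M : Subgroup G) : Prop where
  base : Setting p G
  se : Cfsg.IsStronglyEmbedded M
  four : ∃ a b : G, a ∈ M ∧ b ∈ M ∧ orderOf a = 2 ∧ orderOf b = 2 ∧ a ≠ b ∧ a * b = b * a

/-- An element of `X` normalising a nontrivial `2`-subgroup of `M` lies in `M`. -/
theorem Emb.normalizer_le (h : Emb p G M) {T : Subgroup G} (hT : IsPGroup 2 T) (hne : T ≠ ⊥)
    (hTM : T ≤ M) : Subgroup.normalizer (T : Set G) ≤ M := by
  haveI : Fact (Nat.Prime 2) := ⟨Nat.prime_two⟩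
  haveI : Nontrivial T := (Subgroup.nontrivial_iff_ne_bot T).2 hne
  obtain ⟨k, hk⟩ := IsPGroup.iff_card.1 hT
  have h2 : 2 ∣ Nat.card T := by
    rcases k with _ | k
    · have := Finite.one_lt_card (α := T)
      rw [hk, pow_zero] at this
      omega
    · rw [hk]; exact dvd_pow_self 2 k.succ_ne_zero
  obtain ⟨t, ht⟩ := exists_prime_orderOf_dvd_card' 2 h2
  intro g hg
  exact StronglyEmbedded.mem_of_conj_mem h.se (t := (t : G)) (by rw [Subgroup.orderOf_coe, ht])
    (hTM t.2) (hTM ((Subgroup.mem_normalizer_iff.1 hg _).1 t.2))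

/-- A proper subgroup containing two commuting involutions of `M` lies in `M`. -/
theorem Emb.le_of_four (h : Emb p G M) {X : Subgroup G} (hX : X ≠ ⊤) {a b : G} (haX : a ∈ X)
    (hbX : b ∈ X) (haM : a ∈ M) (hbM : b ∈ M) (ha : orderOf a = 2) (hb : orderOf b = 2)
    (hab : a ≠ b) (hc : a * b = b * a) : X ≤ M := by
  classical
  haveI : Fact (Nat.Prime 2) := ⟨Nat.prime_two⟩
  haveI := h.base.solv X hX
  -- the odd core lies in `M`
  set O := (Cfsg.pPrimeCore 2 X).map X.subtype with hO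
  have hOn : X ≤ Subgroup.normalizer (O : Set G) := by
    have h1 := Subgroup.le_normalizer_map (H := Cfsg.pPrimeCore 2 X) X.subtype
    rw [Subgroup.normalizer_eq_top_iff.2 inferInstance, ← MonoidHom.range_eq_map,
      Subgroup.range_subtype] at h1
    exact h1
  have hOcard : (Nat.card O).Coprime 2 := by
    rw [hO, Subgroup.card_subtype]; exact Cores.pPrimeCore_coprime 2
  set A := Subgroup.closure ({a, b} : Set G) with hA
  haveI : IsMulCommutative A := Subgroup.isMulCommutative_closure (by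
    rintro x (rfl | rfl) y (rfl | rfl)
    · rfl
    · exact hc
    · exact hc.symm
    · rfl)
  have hAX : A ≤ X := (Subgroup.closure_le _).2 (Set.pair_subset haX hbX)
  have hAM : A ≤ M := (Subgroup.closure_le _).2 (Set.pair_subset haM hbM)
  have hcomm : ∀ x ∈ A, x * x = 1 := by
    intro x hx
    induction hx using Subgroup.closure_induction with
    | mem x hx => rcases hx with rfl | rfl <;> exact invol_mul_self (by assumption)
    | one => simp
    | mul x y hxm hym hx' hy' =>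
      have e : x * y = y * x := congrArg Subtype.val (mul_comm' (⟨x, hxm⟩ : A) ⟨y, hym⟩)
      calc x * y * (x * y) = x * (y * x) * y := by group
        _ = x * x * (y * y) := by rw [← e]; group
        _ = 1 := by rw [hx', hy', one_mul]
    | inv x _ hx' => rw [← mul_inv_rev, hx', inv_one]
  have hA2 : IsPGroup 2 A := fun x => ⟨1, Subtype.ext (by
    simpa [pow_two] using hcomm x x.2)⟩
  have hncyc : ¬ IsCyclic A := by
    intro hcyc
    obtain ⟨g, hg⟩ := hcyc.exists_generator
    have hmem : ∀ x ∈ A, x = 1 ∨ x = (g : G) := by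
      intro x hx
      obtain ⟨k, hk⟩ := hg ⟨x, hx⟩
      have hgg : (g : G) ^ (2 : ℤ) = 1 := by
        rw [show (2 : ℤ) = ((2 : ℕ) : ℤ) from rfl, zpow_natCast, pow_two]; exact hcomm g g.2
      have hk' : (g : G) ^ k = x := by simpa using congrArg Subtype.val hk
      rcases Int.even_or_odd k with ⟨j, rfl⟩ | ⟨j, rfl⟩
      · left; rw [← hk', ← two_mul, zpow_mul, hgg, one_zpow]
      · right; rw [← hk', zpow_add, zpow_mul, hgg, one_zpow, one_mul, zpow_one]
    rcases hmem a (Subgroup.subset_closure (by simp)) with h1 | h1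
    · exact invol_ne_one ha h1
    rcases hmem b (Subgroup.subset_closure (by simp)) with h2 | h2
    · exact invol_ne_one hb h2
    exact hab (h1.trans h2.symm)
  have hOM : O ≤ M := by
    rw [← Coprime.iSup_centralizer_eq hncyc (hAX.trans hOn) (by
      obtain ⟨k, hk⟩ := IsPGroup.iff_card.1 hA2
      rw [hk]; exact hOcard.symm.pow_left k)]
    refine iSup₂_le fun x hx => inf_le_right.trans ?_
    exact StronglyEmbedded.centralizer_le h.se
      (orderOf_eq_prime (by rw [pow_two]; exact hcomm x hx.1) hx.2) (hAM hx.1)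
  -- a Sylow `2`-subgroup of `X` inside `M`
  obtain ⟨S, hS⟩ := (hA2.comap_subtype (K := X)).exists_le_sylow
  set S' := (S : Subgroup X).map X.subtype with hS'
  have hS'2 : IsPGroup 2 S' := S.2.map _
  have hS'M : S' ≤ M := by
    by_contra hle
    have hlt : S' ⊓ M < S' := lt_of_le_of_ne inf_le_left fun e => hle (inf_eq_left.1 e)
    haveI : Group.IsNilpotent S' := hS'2.isNilpotent
    obtain ⟨g, ⟨hgS, hgN⟩, hg⟩ := SetLike.exists_of_lt (StronglyEmbedded.lt_inf_normalizer hlt)
    have haS : a ∈ S' :=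
      ⟨⟨a, haX⟩, hS (Subgroup.mem_subgroupOf.2 (Subgroup.subset_closure (by simp))), rfl⟩
    exact hg ⟨hgS, StronglyEmbedded.mem_of_conj_mem h.se ha haM
      ((Subgroup.mem_normalizer_iff.1 hgN a).1 ⟨haS, haM⟩).2⟩
  -- the preimage of the `2`-core modulo the odd core
  set π := QuotientGroup.mk' (Cfsg.pPrimeCore 2 X)
  set P₀ := (Cfsg.pCore 2 (X ⧸ Cfsg.pPrimeCore 2 X)).comap π with hP₀
  haveI : P₀.Normal := by rw [hP₀]; infer_instance
  obtain ⟨T₀⟩ := (inferInstance : Nonempty (Sylow 2 P₀))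
  obtain ⟨S₁, hS₁⟩ := (T₀.2.map P₀.subtype).exists_le_sylow
  obtain ⟨x, hx⟩ := MulAction.exists_smul_eq X S₁ S
  obtain ⟨T, hT2, hTP, hTidx, hTS⟩ : ∃ T : Subgroup X, IsPGroup 2 T ∧ T ≤ P₀ ∧
      ¬ 2 ∣ T.relIndex P₀ ∧ T ≤ (S : Subgroup X) := by
    refine ⟨((T₀ : Subgroup P₀).map P₀.subtype).map (MulAut.conj x).toMonoidHom,
      (T₀.2.map _).map _, ?_, ?_, ?_⟩
    · rw [Subgroup.map_le_iff_le_comap]
      exact (Subgroup.map_subtype_le _).trans fun y hy =>
        (inferInstance : P₀.Normal).conj_mem y hy x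
    · have e : P₀.map (MulAut.conj x).toMonoidHom = P₀ :=
        Subgroup.mem_normalizer_iff_map_conj_eq.1
          (Subgroup.normalizer_eq_top_iff.2 (inferInstance : P₀.Normal) ▸ Subgroup.mem_top x)
      have e' : (((T₀ : Subgroup P₀).map P₀.subtype).map (MulAut.conj x).toMonoidHom).relIndex
          (P₀.map (MulAut.conj x).toMonoidHom) = (T₀ : Subgroup P₀).index := by
        rw [Subgroup.relIndex_map_map_of_injective _ _ (MulAut.conj x).injective, Subgroup.relIndex,
          Subgroup.subgroupOf, Subgroup.comap_map_eq_self_of_injective P₀.subtype_injective]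
      rw [e] at e'
      rw [e']
      exact T₀.not_dvd_index
    · rw [← hx, Sylow.coe_subgroup_smul, Subgroup.pointwise_smul_def]
      exact Subgroup.map_mono hS₁
  obtain ⟨TS, hTS'⟩ : ∃ TS : Sylow 2 P₀, (TS : Subgroup P₀) = T.subgroupOf P₀ :=
    ⟨(hT2.comap_subtype (K := P₀)).toSylow hTidx, rfl⟩
  have hfr := Sylow.normalizer_sup_eq_top TS
  rw [hTS', Subgroup.map_subgroupOf_eq_of_le hTP] at hfr
  -- `P₀ = O · T`
  have hP₀le : P₀ ≤ Cfsg.pPrimeCore 2 X ⊔ T := by
    rw [← Subgroup.relIndex_eq_one, ← Nat.dvd_one]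
    have h1 : (Cfsg.pPrimeCore 2 X ⊔ T).relIndex P₀ ∣ (Cfsg.pPrimeCore 2 X).relIndex P₀ :=
      Subgroup.relIndex_dvd_of_le_left _ le_sup_left
    have h2 : (Cfsg.pPrimeCore 2 X ⊔ T).relIndex P₀ ∣ T.relIndex P₀ :=
      Subgroup.relIndex_dvd_of_le_left _ le_sup_right
    have h3 : (Cfsg.pPrimeCore 2 X).relIndex P₀ =
        Nat.card (Cfsg.pCore 2 (X ⧸ Cfsg.pPrimeCore 2 X)) := by
      have := Subgroup.relIndex_ker (K := P₀) π
      rwa [QuotientGroup.ker_mk', hP₀,
        Subgroup.map_comap_eq_self_of_surjective (QuotientGroup.mk'_surjective _)] at this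
    obtain ⟨k, hk⟩ := IsPGroup.iff_card.1 (Cores.pCore_isPGroup (G := X ⧸ Cfsg.pPrimeCore 2 X) 2)
    rw [h3, hk] at h1
    have := Nat.dvd_gcd h1 h2
    rwa [Nat.Coprime.gcd_eq_one ((Nat.prime_two.coprime_iff_not_dvd.2 hTidx).pow_left k)] at this
  -- `T` is nontrivial
  have hTne : T ≠ ⊥ := by
    intro hT
    rw [hT, sup_bot_eq] at hP₀le
    have hbot : Cfsg.pCore 2 (X ⧸ Cfsg.pPrimeCore 2 X) = ⊥ := by
      rw [← Subgroup.map_comap_eq_self_of_surjective (QuotientGroup.mk'_surjective _)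
        (Cfsg.pCore 2 (X ⧸ Cfsg.pPrimeCore 2 X)), ← le_bot_iff]
      rintro _ ⟨y, hy, rfl⟩
      exact (QuotientGroup.eq_one_iff y).2 (hP₀le hy)
    have hle := SylowInter.Basic.centralizer_pCore_le (G := X ⧸ Cfsg.pPrimeCore 2 X) 2
      (Cores.pPrimeCore_quotient_pPrimeCore 2)
    rw [hbot] at hle
    have hmem : (⟨a, haX⟩ : X) ∈ Cfsg.pPrimeCore 2 X :=
      (QuotientGroup.eq_one_iff _).1 (Subgroup.mem_bot.1 (hle (Subgroup.mem_centralizer_iff.2
        fun y hy => by rw [Subgroup.mem_bot.1 hy, one_mul, mul_one])))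
    have h2 := Subgroup.orderOf_dvd_natCard _ hmem
    rw [← Subgroup.orderOf_coe, ha] at h2
    exact Nat.prime_two.coprime_iff_not_dvd.1 (Cores.pPrimeCore_coprime 2).symm h2
  -- conclusion
  have hTG : T.map X.subtype ≤ M := (Subgroup.map_mono hTS).trans hS'M
  have hNT := h.normalizer_le (hT2.map _)
    (fun e => hTne ((Subgroup.map_eq_bot_iff_of_injective _ X.subtype_injective).1 e)) hTG
  have htop : (⊤ : Subgroup X) ≤
      Subgroup.normalizer (T : Set X) ⊔ (Cfsg.pPrimeCore 2 X ⊔ T) := by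
    rw [← hfr]; exact sup_le_sup_left hP₀le _
  have hXle := Subgroup.map_mono (f := X.subtype) htop
  rw [Subgroup.map_sup, Subgroup.map_sup, ← MonoidHom.range_eq_map, Subgroup.range_subtype] at hXle
  exact hXle.trans (sup_le ((Subgroup.le_normalizer_map _).trans hNT) (sup_le hOM hTG))

/-- A Sylow `p`-subgroup of `M`. -/
def IsSyl (p : ℕ) (M R : Subgroup G) : Prop :=
  R ≤ M ∧ Nat.card R = p ^ (Nat.card M).factorization p

theorem Emb.exists_isSyl (h : Emb p G M) : ∃ R, IsSyl p M R := by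
  haveI := Fact.mk h.base.prime
  obtain ⟨P⟩ := (inferInstance : Nonempty (Sylow p M))
  exact ⟨(P : Subgroup M).map M.subtype, Subgroup.map_subtype_le _, by
    rw [Subgroup.card_subtype, P.card_eq_multiplicity]⟩

theorem Emb.isPGroup_syl (h : Emb p G M) {R : Subgroup G} (hR : IsSyl p M R) : IsPGroup p R :=
  IsPGroup.of_card hR.2

theorem Emb.card_le_of_le (h : Emb p G M) {Q R : Subgroup G} (hR : IsSyl p M R) (hQ : IsPGroup p Q)
    (hQM : Q ≤ M) : Nat.card Q ≤ Nat.card R := by
  haveI := Fact.mk h.base.prime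
  obtain ⟨k, hk⟩ := IsPGroup.iff_card.1 hQ
  rw [hk, hR.2]
  refine Nat.pow_le_pow_right h.base.prime.pos ?_
  exact (h.base.prime.pow_dvd_iff_le_factorization Nat.card_pos.ne').1
    (hk ▸ Subgroup.card_dvd_of_le hQM)

/-- A nilpotent group of even order has a central involution. -/
theorem exists_central_invol {H : Subgroup G} (hnil : Group.IsNilpotent H) (h2H : 2 ∣ Nat.card H) :
    ∃ z : H, orderOf z = 2 ∧ ∀ x : H, x * z = z * x := by
  haveI : Fact (Nat.Prime 2) := ⟨Nat.prime_two⟩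
  haveI := hnil
  obtain ⟨P⟩ := (inferInstance : Nonempty (Sylow 2 H))
  haveI : (P : Subgroup H).Normal := Sylow.normal_of_normalizerCondition
    Group.normalizerCondition_of_isNilpotent P
  have hPne : (P : Subgroup H) ≠ ⊥ := P.ne_bot_of_dvd_card h2H
  haveI : Nontrivial (P : Subgroup H) := (Subgroup.nontrivial_iff_ne_bot _).2 hPne
  haveI := P.2.center_nontrivial
  obtain ⟨j, hj⟩ := IsPGroup.iff_card.1 (P.2.to_subgroup (Subgroup.center (P : Subgroup H)))
  have h2Z : 2 ∣ Nat.card (Subgroup.center (P : Subgroup H)) := by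
    rcases j with _ | j
    · have := Finite.one_lt_card (α := Subgroup.center (P : Subgroup H))
      rw [hj, pow_zero] at this
      omega
    · rw [hj]; exact dvd_pow_self 2 j.succ_ne_zero
  obtain ⟨z, hz⟩ := exists_prime_orderOf_dvd_card' 2 h2Z
  set zH : H := ((z : (P : Subgroup H)) : H) with hzH
  have hz2 : orderOf zH = 2 := by rw [hzH, Subgroup.orderOf_coe, Subgroup.orderOf_coe, hz]
  have hcent : ∀ x : H, x * zH = zH * x := by
    intro x
    -- split `x` into a `2`-part and a `2'`-part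
    set n := orderOf x with hn
    have hn0 : n ≠ 0 := (orderOf_pos x).ne'
    obtain ⟨u, v, huv⟩ : ∃ u v : ℤ, (1 : ℤ) = (ordProj[2] n : ℕ) * u + (ordCompl[2] n : ℕ) * v := by
      have hco : Nat.Coprime (ordProj[2] n) (ordCompl[2] n) :=
        (Nat.coprime_ordCompl Nat.prime_two hn0).pow_left _
      refine ⟨Nat.gcdA (ordProj[2] n) (ordCompl[2] n), Nat.gcdB (ordProj[2] n) (ordCompl[2] n), ?_⟩
      rw [← Nat.gcd_eq_gcd_ab, hco.gcd_eq_one]
      simp
    have hx : x = (x ^ (ordProj[2] n)) ^ u * (x ^ (ordCompl[2] n)) ^ v := by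
      rw [← zpow_natCast, ← zpow_natCast, ← zpow_mul, ← zpow_mul, ← zpow_add, ← huv, zpow_one]
    have h1 : Commute (x ^ (ordProj[2] n)) zH := by
      refine CNGroup.Basic.commute_of_coprime_nilpotent H _ _ ?_
      rw [hz2, orderOf_pow_of_dvd (pow_ne_zero _ two_ne_zero) (Nat.ordProj_dvd n 2)]
      exact (Nat.coprime_ordCompl Nat.prime_two hn0).symm
    have h2 : Commute (x ^ (ordCompl[2] n)) zH := by
      have hpg : IsPGroup 2 (Subgroup.zpowers (x ^ (ordCompl[2] n))) := by
        refine IsPGroup.of_card (n := n.factorization 2) ?_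
        rw [Nat.card_zpowers, orderOf_pow_of_dvd (Nat.ordCompl_pos 2 hn0).ne' (Nat.ordCompl_dvd n 2)]
        exact Nat.div_eq_of_eq_mul_left (Nat.ordCompl_pos 2 hn0)
          (Nat.ordProj_mul_ordCompl_eq_self n 2).symm
      obtain ⟨Q, hQ⟩ := hpg.exists_le_sylow
      obtain ⟨g, hg⟩ := MulAction.exists_smul_eq H Q P
      have hQP : Q = P := by
        rw [← inv_smul_eq_iff.2 hg.symm, Sylow.smul_eq_of_normal]
      have hxP : x ^ (ordCompl[2] n) ∈ (P : Subgroup H) := hQP ▸ hQ (Subgroup.mem_zpowers _)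
      exact congrArg Subtype.val (Subgroup.mem_center_iff.1 z.2 ⟨_, hxP⟩)
    rw [hx]
    exact ((h1.zpow_left u).mul_left (h2.zpow_left v)).eq
  exact ⟨zH, hz2, hcent⟩

/-- A Sylow `p`-subgroup of `M` permutes the involutions of `M` transitively. -/
theorem Emb.trans (h : Emb p G M) {R : Subgroup G} (hR : IsSyl p M R) {s t : G}
    (hs : orderOf s = 2) (hsM : s ∈ M) (ht : orderOf t = 2) (htM : t ∈ M) :
    ∃ r ∈ R, r * s * r⁻¹ = t := by
  haveI := Fact.mk h.base.prime
  haveI : Fact (Nat.Prime 2) := ⟨Nat.prime_two⟩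
  obtain ⟨H, hHM, hHp, hnil, k, hk⟩ := h.base.exists_hall h.se.1
  -- an involution central in `H`
  have hcard : Nat.card H * p ^ k = Nat.card M := by
    have h0 := Subgroup.relIndex_mul_relIndex ⊥ H M bot_le hHM
    rwa [Subgroup.relIndex_bot_left, Subgroup.relIndex_bot_left, hk] at h0
  have h2H : 2 ∣ Nat.card H := by
    have h2M : 2 ∣ Nat.card H * p ^ k := hcard ▸ even_iff_two_dvd.1 h.se.2.1
    exact (h.base.coprime_two.pow_right k).dvd_of_dvd_mul_right h2M
  obtain ⟨zH, hz2, hcent⟩ := exists_central_invol hnil h2H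
  set z₀ : G := (zH : G)
  have hz₀ : orderOf z₀ = 2 := by rw [Subgroup.orderOf_coe, hz2]
  have hz₀M : z₀ ∈ M := hHM zH.2
  -- `M = R H`
  have hcop : (Nat.card R).Coprime (Nat.card H) := by rw [hR.2]; exact hHp.symm.pow_left _
  have hcardR : Nat.card R = p ^ k := by
    rw [hR.2, ← hcard, Nat.factorization_mul Nat.card_pos.ne' (pow_ne_zero _ h.base.prime.ne_zero)]
    simp [Nat.factorization_eq_zero_of_not_dvd (h.base.prime.coprime_iff_not_dvd.1 hHp.symm),
      h.base.prime.factorization_self]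
  have hcompl : Subgroup.IsComplement' (R.subgroupOf M) (H.subgroupOf M) := by
    refine Subgroup.isComplement'_of_coprime ?_ ?_
    · rw [Nat.card_congr (Subgroup.subgroupOfEquivOfLe hR.1).toEquiv,
        Nat.card_congr (Subgroup.subgroupOfEquivOfLe hHM).toEquiv, hcardR, mul_comm, hcard]
    · rw [Nat.card_congr (Subgroup.subgroupOfEquivOfLe hR.1).toEquiv,
        Nat.card_congr (Subgroup.subgroupOfEquivOfLe hHM).toEquiv]
      exact hcop
  have key : ∀ y : G, orderOf y = 2 → y ∈ M → ∃ r ∈ R, r * z₀ * r⁻¹ = y := by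
    intro y hy hyM
    obtain ⟨m, hm, hmz⟩ := ((StronglyEmbedded.isStronglyEmbedded_iff_fusion h.se.1 h.se.2.1).1
      h.se).2 z₀ hz₀M y hyM hz₀ hy (StronglyEmbedded.isConj_involutions h.se hz₀ hy)
    obtain ⟨⟨⟨r, hr⟩, ⟨w, hw⟩⟩, hrw, -⟩ := hcompl.existsUnique ⟨m, hm⟩
    have hmeq : (r : G) * w = m := congrArg Subtype.val hrw
    refine ⟨r, hr, ?_⟩
    have hwc : (w : G) * z₀ = z₀ * w :=
      congrArg Subtype.val (hcent ⟨w, hw⟩)
    rw [← hmz, ← hmeq]
    calc (r : G) * z₀ * (r : G)⁻¹ = r * (z₀ * w) * (w : G)⁻¹ * (r : G)⁻¹ := by group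
      _ = r * (w * z₀) * (w : G)⁻¹ * (r : G)⁻¹ := by rw [hwc]
      _ = r * w * z₀ * (r * w : G)⁻¹ := by group
  obtain ⟨r₁, hr₁, e₁⟩ := key s hs hsM
  obtain ⟨r₂, hr₂, e₂⟩ := key t ht htM
  refine ⟨r₂ * r₁⁻¹, mul_mem hr₂ (inv_mem hr₁), ?_⟩
  rw [← e₁, ← e₂]; group

/-- No involution of `M` normalises a Sylow `p`-subgroup of `M`. -/
theorem Emb.not_mem_normalizer (h : Emb p G M) {R : Subgroup G} (hR : IsSyl p M R) {t : G}
    (ht : orderOf t = 2) (htM : t ∈ M) : t ∉ Subgroup.normalizer (R : Set G) := by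
  intro htN
  obtain ⟨a, b, haM, hbM, ha, hb, hab, hc⟩ := h.four
  obtain ⟨r₀, hr₀, e₀⟩ := h.trans hR ha haM ht htM
  set s := r₀ * b * r₀⁻¹ with hs
  have hs2 : orderOf s = 2 := (orderOf_conj_eq r₀ b).trans hb
  have hsM : s ∈ M := mul_mem (mul_mem (hR.1 hr₀) hbM) (inv_mem (hR.1 hr₀))
  have hts : t * s = s * t := by
    rw [← e₀, hs]
    calc r₀ * a * r₀⁻¹ * (r₀ * b * r₀⁻¹) = r₀ * (a * b) * r₀⁻¹ := by group
      _ = r₀ * b * r₀⁻¹ * (r₀ * a * r₀⁻¹) := by rw [hc]; group
  have hne : t * s ≠ 1 := fun e => hab (by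
    have h1 : t = s := (mul_eq_one_iff_eq_inv.1 e).trans (invol_inv hs2)
    rw [← e₀, hs] at h1
    simpa using h1)
  obtain ⟨r, hr, er⟩ := h.trans hR ht htM hs2 hsM
  have htsR : t * s ∈ R := by
    rw [← er, show t * (r * t * r⁻¹) = t * r * t * r⁻¹ by group]
    refine mul_mem ?_ (inv_mem hr)
    have := (Subgroup.mem_normalizer_iff.1 htN r).1 hr
    rwa [invol_inv ht] at this
  have ho : orderOf (t * s) = 2 := by
    refine orderOf_eq_prime ?_ hne
    rw [pow_two, mul_assoc, ← mul_assoc s t s, ← hts, mul_assoc t s s, invol_mul_self hs2, mul_one,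
      invol_mul_self ht]
  have hd := Subgroup.orderOf_dvd_natCard R htsR
  rw [ho, hR.2] at hd
  have hlt := h.base.five_le
  have := (Nat.prime_dvd_prime_iff_eq Nat.prime_two h.base.prime).1 (Nat.prime_two.dvd_of_dvd_pow hd)
  omega

end Cfsg.Agent.Lib.NilPrime33
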