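import Cfsg.Agent.Lib.NilPrime33.Embedded

/-!
# A group whose proper `p'`-subgroups are nilpotent (`p ≥ 5`) is solvable

Owner: helper33. Namespace `Cfsg.Agent.Lib.NilPrime33`.
-/

set_option autoImplicit false
set_option linter.unusedSectionVars false
set_option linter.style.haveILetI false

namespace Cfsg.Agent.Lib.NilPrime33

universe u

theorem isSolvable_of_pNil {p : ℕ} (hp : p.Prime) (h5 : 5 ≤ p) (G : Type u) [Group G] [Finite G]
    (h : PNil p G) : Group.IsSolvable G := by
  suffices key : ∀ (n : ℕ) (G : Type u) [Group G] [Finite G], Nat.card G = n → PNil p G →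
      Group.IsSolvable G from key _ G rfl h
  intro n
  induction n using Nat.strongRecOn with
  | ind n ih =>
    intro G _ _ hn hG
    by_contra hns
    subst hn
    have hsub : ∀ H : Subgroup G, H ≠ ⊤ → Group.IsSolvable H := by
      intro H hH
      refine ih _ (lt_of_le_of_ne (Subgroup.card_le_card_group H)
        fun e => hH ((Subgroup.card_eq_iff_eq_top H).1 e)) H rfl fun K hK hKp => ?_
      have hne : K.map H.subtype ≠ ⊤ := fun e => hH (top_le_iff.1 (e ▸ Subgroup.map_subtype_le K))
      haveI := hG _ hne (by rwa [Subgroup.card_subtype])
      exact Group.nilpotent_of_mulEquiv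
        (K.equivMapOfInjective H.subtype H.subtype_injective).symm
    haveI : Nontrivial G := by
      by_contra h1
      rw [not_nontrivial_iff_subsingleton] at h1
      exact hns (Group.isSolvable_of_comm fun a b => Subsingleton.elim _ _)
    have hsimple : IsSimpleGroup G := by
      refine ⟨fun N hN => ?_⟩
      by_contra hne
      push Not at hne
      haveI := hN
      haveI := hsub N hne.2
      have hq : Group.IsSolvable (G ⧸ N) := by
        refine ih _ (Hall.card_quotient_lt hne.1) (G ⧸ N) rfl fun Hb hHb hHp => ?_
        set f := QuotientGroup.mk' N with hf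
        have hfs := QuotientGroup.mk'_surjective N
        have hL : Hb.comap f ≠ ⊤ := fun e => hHb (by
          rw [← Subgroup.map_comap_eq_self_of_surjective hfs Hb, e,
            Subgroup.map_top_of_surjective _ hfs])
        haveI := hsub _ hL
        obtain ⟨K, hKL, h1, h2⟩ := Hall.exists_isPiHallOf {q | q ≠ p} (Hb.comap f)
        haveI := hG K (fun e => hL (top_le_iff.1 (e ▸ hKL)))
          (hp.coprime_iff_not_dvd.2 fun hd => h1 p hp hd rfl).symm
        -- the Hall subgroup maps onto `Hb`
        have hmap : K.map f = Hb := by
          refine le_antisymm (Subgroup.map_le_iff_le_comap.2 hKL) ?_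
          rw [← Subgroup.relIndex_eq_one]
          by_contra hne1
          obtain ⟨q, hq, hqd⟩ := Nat.exists_prime_and_dvd hne1
          have d1 : (K.map f).relIndex Hb ∣ Nat.card Hb := Subgroup.index_dvd_card _
          have d2 : (K.map f).relIndex Hb ∣ K.relIndex (Hb.comap f) := by
            have e := Subgroup.relIndex_comap (K.map f) f (Hb.comap f)
            rw [Subgroup.map_comap_eq_self_of_surjective hfs Hb] at e
            rw [← e]
            exact Subgroup.relIndex_dvd_of_le_left _ (Subgroup.le_comap_map f K)
          by_cases hqp : q = p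
          · subst hqp
            exact hp.coprime_iff_not_dvd.1 hHp.symm (hqd.trans d1)
          · exact h2 q hq hqp (hqd.trans d2)
        rw [← hmap]
        exact Group.nilpotent_of_surjective (f.subgroupMap K) (MonoidHom.subgroupMap_surjective f K)
      exact hns ((Group.isSolvable_iff_subgroup_quotient N).mpr ⟨inferInstance, hq⟩)
    exact Setting.false ⟨hp, h5, hsimple, hns, hsub, hG⟩

end Cfsg.Agent.Lib.NilPrime33
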